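import Cfsg.Agent.Th3.P
import Cfsg.Agent.Fus.WN

/-! Core-free saturated fusion systems on a Sylow 3-subgroup of the Thompson group are simple. -/

set_option autoImplicit false
set_option linter.style.haveILetI false
set_option linter.unusedSimpArgs false

namespace CF.Th3

open Cfsg Cfsg.FusionSystem Subgroup CF.Fus CF.FusU CF.Comp

variable {Ω : Type*} [Group Ω] {S E U W H T : Subgroup Ω} {F : FusionSystem S} {v : ℕ → Ω} {f : Ω → Ω}
  {Y M K : Subgroup (MulAut E)} {s t u w x y z : Ω} {a b c d e j i k r : ℕ} {D : FusionSystem T}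

theorem Md.hval (h : Md S v) (hf : MulOn f (Z v 2)) (h1 : f (v 1) = v 3) (h3 : f (v 3) = v 7) :
    f (v 2) = v 6 ∧ f (v 4) = v 1 ∧ f (v 5) = v 4 ∧ f (v 6) = v 5 ∧ f (v 8) = v 2 := by
  have k : ∀ a b c a' b' c', f (v a) = v a' → f (v b) = v b' →
      (e : a < 9 ∧ b < 9 ∧ a' < 9 ∧ b' < 9 ∧ mu a b = c ∧ mu a' b' = c' := by decide +kernel) → f (v c) = v c' := by
    rintro a b _ a' b' _ e1 e2 ⟨l1, l2, l3, l4, rfl, rfl⟩
    rw [h.mul (by omega) (by omega), h.mul (by omega) (by omega), hf (h.Z_of_lt (by decide) l1) (h.Z_of_lt (by decide) l2),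
      e1, e2]
  have h2 := k 1 1 2 3 3 6 h1 h1
  have h6 := k 3 3 6 7 7 5 h3 h3
  exact ⟨h2, k 1 3 4 3 7 1 h1 h3, k 2 3 5 6 7 4 h2 h3, h6, k 2 6 8 6 5 2 h2 h6⟩

theorem Md.cAv (h : Md S v) (a s b : ℕ) (e : a < 9 ∧ s < 59049 ∧ Th3.cjc a s = b := by decide +kernel) :
    fn (cA (Z v 2) (v s)) (v a) = v b := by
  obtain ⟨l1, l2, rfl⟩ := e
  rw [fn_cA (h.Z_norm (by decide) (h.mem l2)) (h.Z_of_lt (by decide) l1), h.cjc (by omega) l2]

theorem res_aut [Finite S] {η : MulAut E} (l : E ≤ S) (lU : U ≤ E) (h1 : η ∈ F.autGroup E) (h2 : η ∈ stab E U) :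
    ∃ α ∈ F.autGroup U, ∀ x ∈ U, fn α x = fn η x :=
  (((mor_fn l h1).mono lU).iso_self fun _ hx => stab_maps h2 hx).exists_aut

theorem Lr.e_ty (h : Lr F v E Y M 0 lE rE) : Th3.HT F v 2 2 ∧ Th3.HT F v 1 2 := by
  have m := h.md
  haveI := m.fin
  obtain ⟨η, e1, -, e2, e3, e4⟩ := h.e7 (K := Y) le_normalizer fun s hs => h.mx.cA_mem hs.1
  obtain ⟨α, a1, a2⟩ := res_aut h.mx.le h.l2 (h.mx.aut e1) e2
  have l := m.Z_le (k := 2) (by decide)
  have w2 : v 3 ∈ Z v 2 := m.Z_of_lt (by decide) (by decide)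
  have w1 : v 3 ∉ Z v 1 := (m.mem_Z (by decide) (by decide)).not.2 (by decide)
  rw [← a2 _ (m.Z_of_lt (by decide) (by decide))] at e3 e4
  obtain ⟨v2, v4, v5, -, v8⟩ := m.hval (mulOn_fn α) e3 e4
  refine ⟨m.ty22 (mor_fn l a1) (fun x hx => fn_mem α hx) (e3 ▸ w1), _, mor_fn l (mul_mem (mul_mem (mul_mem a1 a1)
    (cA_mem_autGroup F l (m.mem (a := 6561) (by decide)))) a1), m.ty_mk (mulOn_fn _) ?_ (Cg.of_eq ?_) w2 w1⟩
  · rw [fn_mul, fn_mul, fn_mul, e3, m.cAv 3 6561 5, v5, v4, pow_one]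
  · rw [fn_mul, fn_mul, fn_mul, e4, m.cAv 7 6561 8, v8, v2, pow_two, ← m.mul (by decide) (by decide),
      show mu 3 3 = 6 by decide +kernel]

theorem Lr.e_top (h : Lr F v E Y M 0 lE rE) (n : WNrm D F 3) (l : T ≠ ⊥) : T = S := by
  have m := h.md
  haveI := m.fin
  haveI := n.satE.fin
  have lB' := h.e_T n.le (sc_norm n.sc) (fun α hα => sc_stab n.sc h.mx.le (h.mx.aut hα)) l
  have lN' : NS S E ≤ T := h.eN ▸ m.LE_spec.trans lB'
  have lE' := (le_NS h.mx.le).trans lN'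
  obtain ⟨η, -, e1, e2, e3, e4⟩ := h.e7 (K := D.autGroup E) (h.mx.aut.trans (n.le_norm lE'))
    fun s hs => cA_mem_autGroup D lE' (lN' hs)
  obtain ⟨α, a1, a2⟩ := res_aut lE' h.l2 e1 e2
  have l := m.Z_le (k := 2) (by decide)
  have nm := m.Z_norm (k := 2) (by decide)
  rw [← a2 _ (m.Z_of_lt (by decide) (by decide))] at e3 e4
  obtain ⟨-, v4, -, v6, -⟩ := m.hval (mulOn_fn α) e3 e4
  have s1 := m.mem (a := 6561) (by decide)
  have s2 := m.mem (a := 13122) (by decide)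
  have q : α * cA _ (v 13122) * α = cA _ (v 6561) := aut_ext ((mulOn_fn (P := Z v 2) _).eqOn_closure (mulOn_fn (P := Z v 2) _) (by
    rintro _ ⟨c, hc, rfl⟩
    rcases (by decide : ∀ c ∈ zl 2, c = 0 ∨ c = 1 ∨ c = 3) c hc with rfl | rfl | rfl
    · rw [m.zero, (mulOn_fn _).map_one, (mulOn_fn _).map_one]
    · rw [fn_mul, fn_mul, e3, m.cAv 3 13122 4, v4, m.cAv 1 6561 1]
    · rw [fn_mul, fn_mul, e4, m.cAv 7 13122 6, v6, m.cAv 3 6561 5]))
  obtain ⟨t, t1, t2⟩ := n.exists_mem (h.l2.trans lE') (fn_of_norm F l nm) (s := v 6561 * (v 13122)⁻¹)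
    ⟨S.mul_mem s1 (S.inv_mem s2), nm (S.mul_mem s1 (S.inv_mem s2))⟩ (by
      rw [cA_mul (nm s1) (nm (inv_mem s2)), cA_inv (nm s2), ← q]
      simpa only [mul_assoc] using mul_mem a1 (n.conj_mem (h.l2.trans lE') (cA_mem_autGroup F l s2) a1))
  refine m.top_of n.le lB' t1.1 fun e => m.NI_spec (A := lB) (r := 3) (k := 0) (c := mu 6561 (iv 13122))
    (by decide +kernel) (by decide +kernel) (by decide) ?_
  rw [m.mul (by decide) (by decide +kernel), m.inv (by decide)]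
  exact Cg.mem (m.lB_eq ▸ t2) le_rfl e

/-- an essential subgroup of the given shape occurs -/
def Oc (F : FusionSystem S) (v : ℕ → Ω) (k : ℕ) (A R : List ℕ) (E : Subgroup Ω) : Prop :=
  ∃ w Y M, (∀ j ≤ 10, Z w j = Z v j) ∧ Lr F w E Y M k A R

theorem Md.ess (h : Md S v) (hF : Sat F 3) (hE : F.IsEssential 3 E) :
    Oc F v 1 (zl 9) [9, 18] E ∨ Oc F v 0 lB [3, 6] E ∨ Oc F v 0 lE rE E := by
  obtain ⟨Y, M, m⟩ := exists_mx hF hE
  obtain ⟨k, l⟩ := exists_lk h m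
  obtain ⟨w, e, l | l | l | l⟩ := l.four
  exacts [.inl ⟨w, Y, M, e, l⟩, .inr (.inl ⟨w, Y, M, e, l⟩), .inr (.inr ⟨w, Y, M, e, l⟩), (no_N l).elim]

theorem Oc.a_eq (h : Oc F v 1 (zl 9) [9, 18] E) : E = Z v 9 :=
  let ⟨_, _, _, e, l⟩ := h
  l.eq.trans (e 9 (by decide))

theorem Oc.b_eq (h : Oc F v 0 lB [3, 6] E) : E = CS S (Z v 2) :=
  let ⟨_, _, _, e, l⟩ := h
  l.eq.trans (l.md.lB_eq.trans (by rw [e 2 (by decide)]))

theorem Md.tri (h : Md S v) (hF : Sat F 3) (hc : F.core = ⊥) : (∃ E, Oc F v 0 lE rE E) ∨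
    (Oc F v 1 (zl 9) [9, 18] (Z v 9) ∧ Oc F v 0 lB [3, 6] (CS S (Z v 2)) ∧
      ∀ P, F.IsEssential 3 P → P = Z v 9 ∨ P = CS S (Z v 2)) := by
  refine or_iff_not_imp_left.2 fun c => ?_
  obtain ⟨-, s9, sB⟩ := h.char (F.autGroup S)
  have k : ∀ Q, Q ≤ S → F.autGroup S ≤ stab S Q → v 1 ∈ Q → ¬ ∀ P, F.IsEssential 3 P → P = Q := fun Q q1 q2 q3 q4 => by
    have := le_core (hF.normal_of_ess (Q := Q) fun P hP => by
      rcases hP with rfl | hP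
      · exact ⟨q1, q2⟩
      · rw [q4 P hP]; exact ⟨le_rfl, stab_self.ge.trans' le_top⟩) q3
    rw [hc, mem_bot, h.one_iff (by decide)] at this
    exact absurd this (by decide)
  refine ⟨by_contra fun a => k _ CS_le (h.lB_eq ▸ sB) (h.lB_eq ▸ h.mem') fun P hP => ?_,
    by_contra fun a => k _ (h.Z_le (by decide)) s9 (h.Z_of_lt (by decide) (by decide)) fun P hP => ?_, fun P hP => ?_⟩
  · rcases h.ess hF hP with e | e | e
    exacts [absurd (e.a_eq ▸ e) a, e.b_eq, absurd ⟨_, e⟩ c]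
  · rcases h.ess hF hP with e | e | e
    exacts [e.a_eq, absurd (e.b_eq ▸ e) a, absurd ⟨_, e⟩ c]
  · rcases h.ess hF hP with e | e | e
    exacts [.inl e.a_eq, .inr e.b_eq, absurd ⟨_, e⟩ c]

theorem Md.types (h : Md S v) (hF : Sat F 3) (hc : F.core = ⊥) : HT F v 2 2 ∧ HT F v 1 2 := by
  obtain ⟨E, w, Y, M, e, l⟩ | ⟨⟨w, Y, M, e, l⟩, ⟨w', Y', M', e', l'⟩, -⟩ := h.tri hF hc
  exacts [⟨l.e_ty.1.congr e, l.e_ty.2.congr e⟩, ⟨l'.b_ty.congr e', l.a_ty.congr e⟩]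

theorem Md.top (h : Md S v) (hc : F.core = ⊥) (n : WNrm D F 3) (l0 : T ≠ ⊥) : T = S := by
  obtain ⟨E, w, Y, M, e, l⟩ | ⟨⟨w, Y, M, e, l⟩, ⟨w', Y', M', e', l'⟩, k⟩ := h.tri n.satF hc
  · exact l.e_top n l0
  refine l.a_T n.le (sc_norm n.sc) (fun α hα => sc_stab n.sc l.mx.le (l.mx.aut hα)) fun c => l0 (eq_bot_iff.2 ?_)
  refine hc ▸ le_core (n.satF.normal_of_sc_le n.sc fun P hP => ?_)
  rcases k P hP with rfl | rfl
  · exact c
  · exact l'.b_T (sc_norm n.sc) (fun α hα => sc_stab n.sc l'.mx.le (l'.mx.aut hα)) (e' 9 (by decide) ▸ c)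

theorem Md.simple (h : Md S v) (hF : Sat F 3) (hc : F.core = ⊥) : F.IsSimple 3 := by
  refine ⟨hF.sat, fun e => absurd ((h.one_iff (a := 1) (by decide)).1 (mem_bot.1 (e ▸ h.mem (by decide)))) (by decide),
    fun T D n => or_iff_not_imp_left.2 fun l => ?_⟩
  have n := (hF.nrm n).toWNrm
  obtain rfl := h.top hc n l
  obtain ⟨h1, h2⟩ := h.types n.satE (eq_bot_iff.2 (hc ▸ le_core (hF.normal_core_of_inv n.toInv)))
  exact ⟨rfl, fun P => by rw [n.toInv.eq_of_aut (h.aut_le hF n.satE n.sub h1 h2)]⟩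

end CF.Th3
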