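import Cfsg.Agent.Th3.A
import Cfsg.Agent.FusU.A

/-! Subgroups given by lists of codes, and checkers. -/

set_option autoImplicit false
set_option linter.unusedSimpArgs false
set_option linter.style.haveILetI false

namespace CF.Th3

open CF.Comp Subgroup CF.Fus CF.FusU

variable {Ω : Type*} [Group Ω] {S D H : Subgroup Ω} {v : ℕ → Ω} {a b c k j n : ℕ} {s t x y z : Ω}
  {A B E : List ℕ}

theorem cm_mul_left (x y z : Ω) : cm (x * y) z = y⁻¹ * cm x z * y * cm y z := by simp only [cm]; group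

theorem cm_mul_right (x y z : Ω) : cm x (y * z) = cm x y * (y * cm x z * y⁻¹) := by simp only [cm]; group

theorem cm_inv_left (x z : Ω) : cm x⁻¹ z = x * (cm x z)⁻¹ * x⁻¹ := by simp only [cm]; group

theorem cm_inv_right (x z : Ω) : cm x z⁻¹ = z⁻¹ * (cm x z)⁻¹ * z := by simp only [cm]; group

theorem cm_swap (x z : Ω) : cm z x = z⁻¹ * x * (cm x z)⁻¹ * (z⁻¹ * x)⁻¹ := by simp only [cm]; group

@[simp] theorem cm_one_left (x : Ω) : cm 1 x = 1 := by simp [cm]

@[simp] theorem cm_one_right (x : Ω) : cm x 1 = 1 := by simp [cm]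

@[simp] theorem cm_self (x : Ω) : cm x x = 1 := by simp [cm]

/-- the elements that centralize `z` modulo `D` -/
def c1 (D : Subgroup Ω) (z : Ω) : Subgroup Ω where
  carrier := {x | x ∈ normalizer (D : Set Ω) ∧ cm x z ∈ D}
  one_mem' := ⟨one_mem _, by simp⟩
  mul_mem' := fun {x y} hx hy => ⟨mul_mem hx.1 hy.1, by
    rw [cm_mul_left]; exact mul_mem (conj_mem_of_norm' hy.1 hx.2) hy.2⟩
  inv_mem' := fun {x} hx => ⟨inv_mem hx.1, by rw [cm_inv_left]; exact conj_mem_of_norm hx.1 (inv_mem hx.2)⟩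

/-- the elements that are centralized by `z` modulo `D` -/
def c2 (D : Subgroup Ω) (z : Ω) : Subgroup Ω where
  carrier := {x | x ∈ normalizer (D : Set Ω) ∧ cm z x ∈ D}
  one_mem' := ⟨one_mem _, by simp⟩
  mul_mem' := fun {x y} hx hy => ⟨mul_mem hx.1 hy.1, by
    rw [cm_mul_right]; exact mul_mem hx.2 (conj_mem_of_norm hx.1 hy.2)⟩
  inv_mem' := fun {x} hx => ⟨inv_mem hx.1, by rw [cm_inv_right]; exact conj_mem_of_norm' hx.1 (inv_mem hx.2)⟩

theorem cm_closure {X Y : Set Ω} (h1 : ∀ x ∈ X, x ∈ normalizer (D : Set Ω)) (h2 : ∀ x ∈ Y, x ∈ normalizer (D : Set Ω))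
    (h : ∀ x ∈ X, ∀ y ∈ Y, cm x y ∈ D) (hx : x ∈ closure X) (hy : y ∈ closure Y) : cm x y ∈ D :=
  ((closure_le (c2 D x)).2 (fun y hy => ⟨h2 y hy, ((closure_le (c1 D y)).2 (fun x hx => ⟨h1 x hx, h x hx y hy⟩) hx).2⟩)
    hy).2

theorem cm_swap_mem (hx : x ∈ normalizer (D : Set Ω)) (hy : y ∈ normalizer (D : Set Ω)) (h : cm x y ∈ D) :
    cm y x ∈ D := by
  rw [cm_swap]; exact conj_mem_of_norm (mul_mem (inv_mem hy) hx) (inv_mem h)

theorem clo_ind [Finite S] {X : Set Ω} (hX : ∀ x ∈ X, x ∈ S) {p : Ω → Prop} (h1 : p 1)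
    (h : ∀ x ∈ X, ∀ y, p y → p (x * y)) (hy : y ∈ closure X) : p y := by
  induction hy using closure_induction_left with
  | one => exact h1
  | mul_left x hx y _ ih => exact h x hx y ih
  | inv_mul_cancel x hx y _ ih =>
    have e : ∀ n : ℕ, p (x ^ n * y) := fun n => by
      induction n with
      | zero => simpa using ih
      | succ n ih => rw [pow_succ', mul_assoc]; exact h x hx _ ih
    have o : 0 < orderOf x := by
      rw [← show ((⟨x, hX x hx⟩ : S) : Ω) = x from rfl, orderOf_coe]; exact orderOf_pos _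
    have := e (orderOf x - 1)
    rwa [eq_inv_of_mul_eq_one_left (show x ^ (orderOf x - 1) * x = 1 by
      rw [← pow_succ, Nat.sub_add_cancel o, pow_orderOf_eq_one])] at this

/-- `v` parametrizes `S` by the codes -/
structure Md (S : Subgroup Ω) (v : ℕ → Ω) : Prop where
  mul : ∀ {a b}, a < 59049 → b < 59049 → v (mu a b) = v a * v b
  inj : ∀ {a b}, a < 59049 → b < 59049 → v a = v b → a = b
  mem : ∀ {a}, a < 59049 → v a ∈ S
  sur : ∀ {s}, s ∈ S → ∃ a < 59049, v a = s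
  fin : Finite S
  pg : IsPGroup 3 S

/-- the subgroup generated by a list of codes -/
def cl (v : ℕ → Ω) (l : List ℕ) : Subgroup Ω := closure (v '' {c | c ∈ l})

theorem mem_cl (h : c ∈ A) : v c ∈ cl v A := subset_closure ⟨c, h, rfl⟩

theorem cl_le : cl v A ≤ H ↔ ∀ c ∈ A, v c ∈ H := by simp [cl, closure_le, Set.subset_def]

/-- generators of the terms of the chain -/
noncomputable def zl (k : ℕ) : List ℕ :=
  List.rec (motive := fun _ => List ℕ) [] (fun g _ r => Bool.rec 0 g (lt g (Nat.pow 3 k)) :: r) g10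

/-- the chain of normal subgroups -/
noncomputable def Z (v : ℕ → Ω) (k : ℕ) : Subgroup Ω := cl v (zl k)

theorem okl_iff : okl A = true ↔ ∀ a ∈ A, a < 59049 := by simp only [okl, lall_iff, lt_iff]

theorem cjc_lt (ha : a < 59049) (hb : b < 59049) : cjc a b < 59049 := by
  rw [cjc, force_eq]; exact mu_lt (mu_lt hb ha) (iv_lt hb).1

theorem cc_lt (ha : a < 59049) (hb : b < 59049) : cc a b < 59049 := by
  rw [cc, force_eq]; exact mu_lt (iv_lt ha).1 (cjc_lt ha hb)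

theorem cu_lt (ha : a < 59049) : cu a < 59049 := by
  rw [cu, force_eq]; exact mu_lt (mu_lt ha ha) ha

theorem zl_spec (hk : k ≤ 10) : (∀ a ∈ zl k, a < 3 ^ k) ∧ ∀ g ∈ g10, g < 3 ^ k → g ∈ zl k := by
  interval_cases k <;> decide

theorem pow_le (hk : k ≤ 10) : 3 ^ k ≤ 59049 := Nat.pow_le_pow_right (by decide) hk

/-- all commutators lie in the `k`-th term -/
noncomputable def CC (A B : List ℕ) (k : ℕ) : Bool := band (band (okl A) (okl B)) (ccl A B (Nat.pow 3 k))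

theorem kC : allFrom (fun k => CC (zl (Nat.succ k)) g10 k) 0 10 = true := by decide +kernel

theorem anyN_spec {f : ℕ → Bool} (h : anyN n f = false) (hn : n ≤ 59049) : ∀ i < n, f i = false := fun i hi => by
  have : allN n (fun c => Bool.rec true false (f c)) = true := by
    rw [anyN] at h; revert h; cases allN n (fun c => Bool.rec true false (f c)) <;> simp
  have := allN_spec this hn i hi
  revert this; cases f i <;> simp

namespace Md

variable (h : Md S v)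
include h

theorem zero : v 0 = 1 := by
  have := h.mul (a := 0) (b := 0) (by decide) (by decide)
  rw [show mu 0 0 = 0 by decide +kernel] at this
  exact left_eq_mul.1 this

theorem inv (ha : a < 59049) : v (iv a) = (v a)⁻¹ :=
  eq_inv_of_mul_eq_one_right (by rw [← h.mul ha (iv_lt ha).1, (iv_lt ha).2, h.zero])

theorem cjc (ha : a < 59049) (hb : b < 59049) : v (cjc a b) = v b * v a * (v b)⁻¹ := by
  rw [Th3.cjc, force_eq, h.mul (mu_lt hb ha) (iv_lt hb).1, h.mul hb ha, h.inv hb]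

theorem cc (ha : a < 59049) (hb : b < 59049) : v (cc a b) = cm (v a) (v b) := by
  rw [Th3.cc, force_eq, h.mul (iv_lt ha).1 (cjc_lt ha hb), h.inv ha, h.cjc ha hb, cm]

theorem cu (ha : a < 59049) : v (cu a) = v a ^ 3 := by
  rw [Th3.cu, force_eq, h.mul (mu_lt ha ha) ha, h.mul ha ha, pow_three']

theorem eq_iff (ha : a < 59049) (hb : b < 59049) : v a = v b ↔ a = b := ⟨h.inj ha hb, fun e => e ▸ rfl⟩

theorem one_iff (ha : a < 59049) : v a = 1 ↔ a = 0 := by rw [← h.zero, h.eq_iff ha (by decide)]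

theorem cj (hs : s ∈ S) : Md S fun c => s⁻¹ * v c * s :=
  ⟨fun ha hb => by rw [h.mul ha hb]; group, fun ha hb e => h.inj ha hb (by simpa using e),
    fun ha => mul_mem (mul_mem (inv_mem hs) (h.mem ha)) hs, fun {t} ht =>
      let ⟨a, ha, e⟩ := h.sur (mul_mem (mul_mem hs ht) (inv_mem hs))
      ⟨a, ha, by rw [e]; group⟩, h.fin, h.pg⟩

theorem cl_le_S (hA : okl A = true) : cl v A ≤ S := cl_le.2 fun c hc => h.mem (okl_iff.1 hA c hc)

theorem mem_of_gen (hk : k ≤ 10) (hH : ∀ g ∈ g10, g < 3 ^ k → v g ∈ H) (hc : c < 3 ^ k) : v c ∈ H := by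
  induction c using Nat.strong_induction_on with
  | _ c ih =>
  rcases eq_or_ne c 0 with rfl | h0
  · rw [h.zero]; exact one_mem _
  have := pow_le hk
  obtain ⟨g, h1, h2, h3⟩ := dec (c := c) (by omega) h0
  have : 0 < g := (by decide : ∀ g ∈ g10, 0 < g) g h1
  rw [← h3, h.mul (by omega) (by omega)]
  exact mul_mem (ih _ (by omega) (by omega)) (hH g h1 (by omega))

theorem Z_of_lt (hk : k ≤ 10) (hc : c < 3 ^ k) : v c ∈ Z v k :=
  h.mem_of_gen hk (fun g h1 h2 => mem_cl ((zl_spec hk).2 g h1 h2)) hc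

theorem ex_Z (hk : k ≤ 10) (hx : x ∈ Z v k) : ∃ c < 3 ^ k, v c = x := by
  haveI := h.fin
  have := pow_le hk
  refine clo_ind (S := S) (p := fun x => ∃ c < 3 ^ k, v c = x) ?_ ⟨0, by positivity, h.zero⟩ ?_ hx
  · rintro _ ⟨c, hc, rfl⟩
    exact h.mem (((zl_spec hk).1 c hc).trans_le this)
  · rintro _ ⟨c, hc, rfl⟩ _ ⟨d, hd, rfl⟩
    have := (zl_spec hk).1 c hc
    exact ⟨_, mu_pow hk this hd, h.mul (by omega) (by omega)⟩

theorem mem_Z (hk : k ≤ 10) (hc : c < 59049) : v c ∈ Z v k ↔ c < 3 ^ k :=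
  ⟨fun e => let ⟨_, hd, e⟩ := h.ex_Z hk e
    (h.eq_iff (hd.trans_le (pow_le hk)) hc).1 e ▸ hd, h.Z_of_lt hk⟩

theorem Z_le (hk : k ≤ 10) : Z v k ≤ S := fun _ e =>
  let ⟨_, hd, e⟩ := h.ex_Z hk e
  e ▸ h.mem (hd.trans_le (pow_le hk))

theorem Z_ten : Z v 10 = S := le_antisymm (h.Z_le le_rfl) fun _ hs =>
  let ⟨_, ha, e⟩ := h.sur hs
  e ▸ h.Z_of_lt le_rfl ha

theorem S_eq : S = cl v g10 := h.Z_ten.symm

theorem Z_zero : Z v 0 = ⊥ := eq_bot_iff.2 fun _ e =>
  let ⟨d, hd, e⟩ := h.ex_Z (by decide) e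
  mem_bot.2 (by rw [← e, show d = 0 by omega, h.zero])

theorem Z_mono (hj : j ≤ k) (hk : k ≤ 10) : Z v j ≤ Z v k := fun _ e =>
  let ⟨_, hd, e⟩ := h.ex_Z (hj.trans hk) e
  e ▸ h.Z_of_lt hk (hd.trans_le (Nat.pow_le_pow_right (by decide) hj))

theorem CC_aux (hk : k ≤ 10) (hn : S ≤ normalizer (Z v k : Set Ω)) (e : CC A B k = true) (hx : x ∈ cl v A)
    (hy : y ∈ cl v B) : cm x y ∈ Z v k := by
  simp only [CC, ccl, band_iff, okl_iff, lall_iff, lt_iff] at e
  refine cm_closure ?_ ?_ ?_ hx hy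
  · rintro _ ⟨a, ha, rfl⟩; exact hn (h.mem (e.1.1 a ha))
  · rintro _ ⟨a, ha, rfl⟩; exact hn (h.mem (e.1.2 a ha))
  · rintro _ ⟨a, ha, rfl⟩ _ ⟨b, hb, rfl⟩
    rw [← h.cc (e.1.1 a ha) (e.1.2 b hb)]
    exact h.Z_of_lt hk (e.2 a ha b hb)

theorem Z_norm (hk : k ≤ 10) : S ≤ normalizer (Z v k : Set Ω) := by
  haveI := h.fin
  induction k with
  | zero => rw [h.Z_zero]; exact fun s _ => mem_normalizer_iff.2 (by simp)
  | succ k ih =>
    exact fun s hs => norm_of_cm (h.Z_le hk) fun x hx => h.Z_mono (by omega) hk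
      (h.CC_aux (by omega) (ih (by omega)) (all0 kC k (by omega)) hx (h.S_eq ▸ hs))

theorem CC_spec (e : CC A B k = true) (hx : x ∈ cl v A) (hy : y ∈ cl v B) (hk : k ≤ 10 := by decide) :
    cm x y ∈ Z v k := h.CC_aux hk (h.Z_norm hk) e hx hy

theorem cm_Z (hk : k < 10) (hx : x ∈ Z v (k + 1)) (hs : s ∈ S) : cm x s ∈ Z v k :=
  h.CC_spec (all0 kC k hk) hx (h.S_eq ▸ hs) hk.le

theorem cm_Z' (hk : k < 10) (hs : s ∈ S) (hx : x ∈ Z v (k + 1)) : cm s x ∈ Z v k :=
  cm_swap_mem (h.Z_norm hk.le (h.Z_le hk hx)) (h.Z_norm hk.le hs) (h.cm_Z hk hx hs)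

theorem Z_cj (hs : s ∈ S) (hk : k ≤ 10) : Z (fun c => s⁻¹ * v c * s) k = Z v k :=
  le_antisymm (cl_le.2 fun _ hc => conj_mem_of_norm' (h.Z_norm hk hs) (mem_cl hc)) (cl_le.2 fun c hc => by
    have := conj_mem_of_norm ((h.cj hs).Z_norm hk hs) (mem_cl (v := fun c => s⁻¹ * v c * s) hc)
    simpa [mul_assoc] using this)

theorem split (hk : k < 5) (hc : c < 59049) : (v (c - c % 3 ^ k))⁻¹ * v c ∈ Z v k := by
  have h1 : c % 3 ^ k < 3 ^ k := Nat.mod_lt _ (by positivity)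
  have := pow_le (k := k) (by omega)
  have e := h.mul (a := c - c % 3 ^ k) (b := c % 3 ^ k) (by omega) (by omega)
  rw [mu_split hk hc] at e
  rw [e, inv_mul_cancel_left]
  exact h.Z_of_lt (by omega) h1

end Md

end CF.Th3
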