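import Cfsg.Agent.Th3.B

/-! General tools for essential subgroups: congruences, chains, the ladder step, transvections. -/

set_option autoImplicit false
set_option linter.style.haveILetI false

namespace CF.Th3

open Cfsg Cfsg.FusionSystem Subgroup CF.Fus CF.FusU

variable {Ω : Type*} [Group Ω] {S E A B C D : Subgroup Ω} {F : FusionSystem S} {p : ℕ}
  {Y M H : Subgroup (MulAut E)} {g α β : MulAut E} {s t u w x y z x' y' : Ω}

/-- congruence modulo `D` -/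
def Cg (D : Subgroup Ω) (x y : Ω) : Prop := x⁻¹ * y ∈ D

namespace Cg

theorem refl (x : Ω) : Cg D x x := by simp [Cg]

theorem of_eq (h : x = y) : Cg D x y := h ▸ refl x

theorem symm (h : Cg D x y) : Cg D y x := by simpa [Cg] using D.inv_mem h

theorem trans (h : Cg D x y) (h' : Cg D y z) : Cg D x z := by simpa [Cg, mul_assoc] using D.mul_mem h h'

theorem mono (h : Cg D x y) (l : D ≤ C) : Cg C x y := l h

theorem mul (h : Cg D x y) (h' : Cg D x' y') (n : x' ∈ normalizer (D : Set Ω)) : Cg D (x * x') (y * y') := by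
  rw [Cg, show (x * x')⁻¹ * (y * y') = x'⁻¹ * (x⁻¹ * y) * x' * (x'⁻¹ * y') by group]
  exact mul_mem (conj_mem_of_norm' n h) h'

theorem mul_left (h : Cg D x y) (z : Ω) : Cg D (z * x) (z * y) := by simpa [Cg, mul_assoc] using h

theorem mul_right (h : Cg D x y) (n : z ∈ normalizer (D : Set Ω)) : Cg D (x * z) (y * z) := h.mul (refl z) n

theorem inv (h : Cg D x y) (n : x ∈ normalizer (D : Set Ω)) : Cg D x⁻¹ y⁻¹ := by
  rw [Cg, show x⁻¹⁻¹ * y⁻¹ = x * (x⁻¹ * y)⁻¹ * x⁻¹ by group]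
  exact conj_mem_of_norm n (inv_mem h)

theorem pow (h : Cg D x y) (n : x ∈ normalizer (D : Set Ω)) (k : ℕ) : Cg D (x ^ k) (y ^ k) := by
  induction k with
  | zero => simpa using refl 1
  | succ k ih => rw [pow_succ, pow_succ]; exact ih.mul h n

theorem mem (h : Cg D x y) (l : D ≤ C) (hx : x ∈ C) : y ∈ C := by simpa using mul_mem hx (l h)

theorem mem' (h : Cg D x y) (l : D ≤ C) (hx : y ∈ C) : x ∈ C := h.symm.mem l hx

theorem of_mem (hx : x ∈ D) (hy : y ∈ D) : Cg D x y := mul_mem (inv_mem hx) hy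

theorem mul_mem (x : Ω) (hy : y ∈ D) : Cg D x (x * y) := by simpa [Cg] using hy

theorem fn (h : Cg D x y) (hα : α ∈ stab E D) (hx : x ∈ E) (hy : y ∈ E) : Cg D (fn α x) (fn α y) := by
  rw [Cg, ← (mulOn_fn α).map_inv_mul hx hy]; exact stab_maps hα h

theorem conj (h : cm x s ∈ D) : Cg D x (s * x * s⁻¹) := h

theorem comm (h : cm x y ∈ D) (n : y ∈ normalizer (D : Set Ω)) : Cg D (x * y) (y * x) := by
  simpa using (conj h).mul_right n

theorem cm_left (h : Cg C x y) (k : ∀ c ∈ C, cm c s ∈ D)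
    (k' : ∀ c ∈ C, cm (cm x s) c⁻¹ ∈ D) : Cg D (cm x s) (cm y s) := by
  rw [← mul_inv_cancel_left x y, cm_mul_left]
  have := (conj (k' _ h)).trans (mul_mem _ (k _ h))
  rwa [inv_inv] at this

theorem cm_mem (h : Cg C x y) (k : ∀ c ∈ C, cm c s ∈ D) (n : C ≤ normalizer (D : Set Ω)) (e : cm x s ∈ D) :
    cm y s ∈ D := by
  rw [← mul_inv_cancel_left x y, cm_mul_left]
  exact D.mul_mem (conj_mem_of_norm' (n h) e) (k _ h)

theorem cm_mem' (h : Cg C x y) (k : ∀ c ∈ C, cm s c ∈ D) (n : x ∈ normalizer (D : Set Ω)) (e : cm s x ∈ D) :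
    cm s y ∈ D := by
  rw [← mul_inv_cancel_left x y, cm_mul_right]
  exact D.mul_mem e (conj_mem_of_norm n (k _ h))

theorem cm_right (h : Cg C x y) (k : ∀ c ∈ C, cm s c ∈ D) (n : x ∈ normalizer (D : Set Ω)) :
    Cg D (cm s x) (cm s y) := by
  rw [← mul_inv_cancel_left x y, cm_mul_right]
  exact mul_mem _ (conj_mem_of_norm n (k _ h))

end Cg

/-- `α` acts trivially on the factors of an invariant chain up to `D` -/
inductive Lv (Y : Subgroup (MulAut E)) (α : MulAut E) : Subgroup Ω → Prop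
  | bot : Lv Y α ⊥
  | step {C D : Subgroup Ω} : Lv Y α C → Y ≤ stab E D → (∀ x ∈ E, x ∈ D → Cg C x (fn α x)) → Lv Y α D

theorem Lv.chain (h : Lv Y α D) : ∃ (n : ℕ) (C : ℕ → Subgroup Ω), C 0 = ⊥ ∧ C n = D ∧ (∀ j ≤ n, Y ≤ stab E (C j)) ∧
    ∀ j < n, ∀ x ∈ E, x ∈ C (j + 1) → x⁻¹ * fn α x ∈ C j := by
  induction h with
  | bot => exact ⟨0, fun _ => ⊥, rfl, rfl, fun _ _ => le_stab_bot, fun _ h => absurd h (Nat.not_lt_zero _)⟩
  | @step C D _ h1 h2 ih =>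
    obtain ⟨n, K, k0, k1, k2, k3⟩ := ih
    refine ⟨n + 1, fun j => if j ≤ n then K j else D, by simpa using k0, by simp, fun j _ => ?_, fun j hj x hx => ?_⟩
    · dsimp only
      split_ifs with e
      exacts [k2 j e, h1]
    · rcases Nat.lt_succ_iff_lt_or_eq.1 hj with e | rfl
      · simpa only [if_pos e.le, if_pos (Nat.succ_le_of_lt e)] using k3 j e x hx
      · simpa only [le_refl, if_true, if_neg (Nat.not_succ_le_self j), k1, Cg] using h2 x hx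

theorem Lv.op [Fact p.Prime] [Finite E] (h : Lv Y α ⊤) (hp : IsPGroup p E) (hα : α ∈ Y) : α ∈ OpIn p Y := by
  obtain ⟨n, C, k0, k1, k2, k3⟩ := h.chain
  exact mem_OpIn_of_chain hp C n (k1 ▸ le_top) k2
    (fun β _ _ x _ h => by rw [k0] at h; rw [mem_bot.1 h, (mulOn_fn β).map_one]) hα k3

theorem Lv.stepc (h : Lv Y (cA E s) C) (hs : s ∈ normalizer (E : Set Ω)) (hD : Y ≤ stab E D)
    (k : ∀ x ∈ E, x ∈ D → cm x s ∈ C) : Lv Y (cA E s) D :=
  h.step hD fun x h1 h2 => by rw [fn_cA hs h1]; exact k x h1 h2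

/-- the minimal overgroup inside the fusion system -/
structure Mx (F : FusionSystem S) (p : ℕ) (E : Subgroup Ω) (Y M : Subgroup (MulAut E)) : Prop
    extends Mn p S E Y M where
  aut : Y ≤ F.autGroup E
  opi : OpIn p Y ≤ Inn E
  gam : ∀ H : Subgroup (MulAut E), (∀ α, ∀ t ∈ NS S E, t ∉ E → ∀ s ∈ NS S E, α * cA E t * α⁻¹ = cA E s → α ∈ H) → M ≤ H

theorem exists_mx [Fact p.Prime] (hF : Sat F p) (hE : F.IsEssential p E) : ∃ Y M, Mx F p E Y M := by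
  haveI := hF.fin
  have l := (hF.ess_lt hE).le
  haveI := fin_of_le l
  obtain ⟨h1, h2⟩ := hF.ess_Gam hE
  have sy := hF.ess_syl hE
  have m := le_Gam sy.le h1
  obtain ⟨Y, ⟨y1, y2, y3⟩, y4⟩ := WellFounded.has_min (wellFounded_lt (α := Subgroup (MulAut E)))
    {Y | autInducedBy S E ≤ Y ∧ Y ≤ F.autGroup E ∧ ¬ Y ≤ Gam (F.autGroup E) (autInducedBy S E) (Inn E)}
    ⟨_, sy.le, le_rfl, fun e => h2 (le_antisymm Gam_le e)⟩
  have k : ∀ g ∈ Y, ∀ t ∈ NS S E, t ∉ E → g * cA E t * g⁻¹ ∈ autInducedBy S E →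
      g ∈ Gam (F.autGroup E) (autInducedBy S E) (Inn E) := fun g hg t ht tn e =>
    mem_Gam_of_elt sy (Inn_norm _) h1.le (cA_mem_autInducedBy ht.1)
      (mt (mem_of_cA_mem_Inn l (hF.ess_centric hE) ht) tn) (y2 hg) e
  have op : ∀ s ∈ NS S E, cA E s ∈ OpIn p Y → s ∈ E := fun s hs h3 => by_contra fun c =>
    y3 fun g hg => k g hg s hs c ((sy.mono y1 y2).OpIn_le (conj_mem_of_norm (le_norm_OpIn hg) h3))
  refine ⟨Y, _, ⟨l, hF.fin, hF.pg, hF.ess_centric hE, (SetLike.lt_iff_le_and_exists.1 (hF.ess_NS hE)).2,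
    SetLike.not_le_iff_exists.1 y3, y1, m, fun g hg gn t ht tn H h3 h4 => by_contra fun c => ?_, op⟩, y2,
    fun α hα => ?_, fun H hH => (closure_le _).2 ?_⟩
  · have a : H ⊓ Y ≤ Gam (F.autGroup E) (autInducedBy S E) (Inn E) := by_contra fun a =>
      y4 _ ⟨le_inf h3 y1, inf_le_right.trans y2, a⟩ (inf_lt_right.2 c)
    have t0 := cA_mem_autInducedBy (P := E) ht.1
    obtain ⟨j, hj⟩ := isPGroup_iff_mem.1 sy.pg _ t0
    obtain ⟨b, b1, b2⟩ := (sy.mono m Gam_le).exists_conj_elt (a ⟨h4, mul_mem (mul_mem hg (y1 t0)) (Y.inv_mem hg)⟩)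
      (k := j) (by rw [conj_pow, hj]; simp)
    have := mem_Gam_of_elt sy (Inn_norm _) h1.le t0 (mt (mem_of_cA_mem_Inn l (hF.ess_centric hE) ht) tn)
      (mul_mem (Gam_le b1) (y2 hg)) (by simpa [mul_assoc] using b2)
    exact gn (by simpa using mul_mem (inv_mem b1) this)
  · obtain ⟨s, s1, s2, rfl⟩ := mem_autInducedBy.1 ((sy.mono y1 y2).OpIn_le hα)
    exact cA_mem_Inn (op s ⟨s1, s2⟩ hα)
  · rintro α ⟨-, Q, q1, q2, q3⟩
    obtain ⟨β, b1, b2⟩ := SetLike.exists_of_lt q1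
    obtain ⟨t, t1, t2, rfl⟩ := mem_autInducedBy.1 (q2 b1)
    obtain ⟨s, s1, s2, e⟩ := mem_autInducedBy.1 (q2 (conj_mem_of_norm q3 b1))
    exact hH α t ⟨t1, t2⟩ (fun c => b2 (cA_mem_Inn c)) s ⟨s1, s2⟩ e.symm

theorem stab_of_fix (hD : Y ≤ stab E D) (hw : w ∈ E) (hC : C ≤ E) (h1 : D ≤ C) (h2 : ∀ α ∈ Y, Cg D w (fn α w))
    (h3 : ∀ x ∈ C, ∃ i : ℕ, Cg D (w ^ i) x) (h4 : w ∈ C) : Y ≤ stab E C :=
  le_stab hC fun α hα x hx => by
    obtain ⟨i, hi⟩ := h3 x hx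
    have := hi.fn (hD hα) (pow_mem hw i) (hC hx)
    rw [(mulOn_fn α).map_pow hw] at this
    exact this.mem h1 (pow_mem ((h2 α hα).mem h1 h4) i)

theorem ex_pow [Finite S] (hw : w ∈ S) (hn : w ∈ normalizer (D : Set Ω)) (hx : x ∈ D ⊔ zpowers w) :
    ∃ i : ℕ, Cg D (w ^ i) x := by
  rw [sup_comm, mem_sup_of_norm (zpowers_le.2 hn)] at hx
  obtain ⟨a, ha, b, hb, rfl⟩ := hx
  obtain ⟨i, rfl⟩ := (mem_powers_iff_mem_zpowers (G := S) (x := ⟨w, hw⟩) (y := ⟨a, zpowers_le.2 hw ha⟩)).2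
    (let ⟨k, hk⟩ := ha; ⟨k, Subtype.ext hk⟩) |>.imp fun _ e => congrArg Subtype.val e
  exact ⟨i, Cg.mul_mem _ hb⟩

theorem norm_sup [Finite S] (hD : D ≤ S) (hw : w ∈ S) (hn : w ∈ normalizer (D : Set Ω))
    (hs : s ∈ normalizer (D : Set Ω)) (h : cm w s ∈ D) : s ∈ normalizer ((D ⊔ zpowers w : Subgroup Ω) : Set Ω) :=
  norm_of_cm (sup_le hD (zpowers_le.2 hw)) fun x hx => by
    obtain ⟨i, hi⟩ := ex_pow hw hn hx
    exact mem_sup_left (hi.cm_mem (fun c hc => cm_mem hc hs) le_normalizer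
      (pow_mem (show w ∈ c1 D s from ⟨hn, h⟩) i).2)

theorem mem_of_pow3 {b : ℕ} (h1 : x ^ b ∈ C) (h2 : x ^ 3 ∈ C) (h3 : ¬ 3 ∣ b) : x ∈ C := by
  have k : ∀ i, x ^ (3 * i) ∈ C := fun i => by rw [pow_mul]; exact pow_mem h2 i
  by_cases b1 : b % 3 = 1
  · rw [← Nat.div_add_mod b 3, b1, pow_succ] at h1
    exact (mul_mem_cancel_left (k _)).1 h1
  · have := pow_mem h1 2
    rw [← pow_mul, show b * 2 = 3 * (2 * (b / 3) + 1) + 1 by omega, pow_succ] at this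
    exact (mul_mem_cancel_left (k _)).1 this

theorem not_mem_mul (hb : β ∈ M) (gn : g ∉ M) : β * g ∉ M := fun e => gn (by simpa using mul_mem (inv_mem hb) e)

section

variable (h : Mn p S E Y M)
include h

theorem lv_mem [Fact p.Prime] (hs : s ∈ NS S E) (l : Lv Y (cA E s) ⊤) : s ∈ E :=
  haveI := h.fin
  haveI := fin_of_le h.le
  h.op s hs (l.op (h.pg.to_le h.le) (h.cA_mem hs.1))

theorem lv_top [Fact p.Prime] (hs : s ∈ NS S E) (l : Lv Y (cA E s) D) (k : ∀ x ∈ E, cm x s ∈ D) : s ∈ E :=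
  lv_mem h hs (l.stepc hs.2 le_stab_top fun x hx _ => k x hx)

theorem cA_M (ht : t ∈ S) : cA E t ∈ M := h.sub' (cA_mem_autInducedBy ht)

theorem nm' (hg : g ∈ Y) (gn : g ∉ M) (ht : t ∈ NS S E) (tn : t ∉ E) : g * cA E t * g⁻¹ ∉ M := by
  simpa using h.nm (inv_mem hg) (by simpa using gn) ht tn

theorem cj_mem (hg : g ∈ Y) (ht : t ∈ S) : g * cA E t * g⁻¹ ∈ Y := mul_mem (mul_mem hg (h.cA_mem ht)) (inv_mem hg)

/-- the ladder step -/
theorem lad [Fact p.Prime] (hD : Y ≤ stab E D) (hn : S ≤ normalizer (D : Set Ω)) (hw : w ∈ E)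
    (h1 : ∀ s ∈ S, cm w s ∈ D) :
    (∀ α ∈ Y, Cg D w (fn α w)) ∨ ∀ g ∈ Y, g ∉ M → ∀ s ∈ S, s ∈ E ↔ cm (fn g w) s ∈ D := by
  refine or_iff_not_imp_left.2 fun c g hg gn => ?_
  have a : E ≤ S ⊓ c2 D (fn g w) := fun e he => ⟨h.le he, hn (h.le he), by
    rw [← fn_fn_inv g e, ← fn_cm g hw (fn_mem _ he)]
    exact stab_maps (hD hg) (h1 _ (h.le (fn_mem _ he)))⟩
  have b := h.le_of inf_le_left (a.trans le_normalizer) fun t h2 h3 => by_contra fun tn =>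
    c (h.key hD hw (fun n hn => h1 n hn.1) hg gn h3 tn h2.2.2)
  exact fun s hs => ⟨fun e => (a e).2.2, fun e => b ⟨hs, hn hs, e⟩⟩

end

/-- transvections -/
theorem tv (h : Mn 3 S E Y M) (hD : Y ≤ stab E D) (hDE : D ≤ E) (hn : NS S E ≤ normalizer (D : Set Ω)) (hw : w ∈ E)
    (h1 : ∀ n ∈ NS S E, cm w n ∈ D) (w3 : w ^ 3 ∈ D) (ht : t ∈ NS S E) (tn : t ∉ E)
    (h2 : ∀ x ∈ E, cm x t ∈ D ⊔ zpowers w) (lv : Lv Y (cA E t) D) (hs : s ∈ NS S E)
    (sn : ∀ i : ℕ, t ^ i * s ∉ E) : False := by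
  haveI : Fact (Nat.Prime 3) := ⟨Nat.prime_three⟩
  haveI := h.fin
  have nE : E ≤ normalizer (D : Set Ω) := (le_NS h.le).trans hn
  replace h2 : ∀ x ∈ E, ∃ i : ℕ, Cg D (w ^ i) (cm x t) := fun x hx => ex_pow (h.le hw) (nE hw) (h2 x hx)
  have wp : ∀ n ∈ NS S E, ∀ i : ℕ, cm (w ^ i) n ∈ D := fun n k i =>
    (pow_mem (show w ∈ c1 D n from ⟨nE hw, h1 n k⟩) i).2
  have k0 : ∀ γ ∈ Y, γ ∉ M → cm (fn γ w) t ∉ D := fun γ g1 g2 e => by
    have f := h.key hD hw h1 g1 g2 ht tn e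
    have m : ∀ x ∈ D ⊔ zpowers w, ∃ i : ℕ, Cg D (w ^ i) x := fun x hx => ex_pow (h.le hw) (nE hw) hx
    refine tn (lv_top h ht (lv.stepc ht.2 (stab_of_fix hD hw (sup_le hDE (zpowers_le.2 hw)) le_sup_left f m
      (mem_sup_right (mem_zpowers w))) fun x _ hx => ?_) fun x hx => ?_)
    · obtain ⟨i, hi⟩ := m x hx
      exact hi.cm_mem (fun c hc => cm_mem hc (hn ht)) le_normalizer (wp t ht i)
    · obtain ⟨i, hi⟩ := h2 x hx
      exact hi.mem le_sup_left (mem_sup_right (pow_mem (mem_zpowers w) i))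
  have w0 : ∀ i, 3 ∣ i → w ^ i ∈ D := by
    rintro _ ⟨i, rfl⟩; rw [pow_mul]; exact pow_mem w3 i
  have k1 : ∀ x ∈ E, ∀ y ∈ E, cm y t ∉ D → ∃ i : ℕ, cm (x * y ^ i) t ∈ D := fun x hx y hy e => by
    obtain ⟨a, ha⟩ := h2 x hx
    obtain ⟨b, hb⟩ := h2 y hy
    have q : ∀ i : ℕ, Cg D (w ^ (a + i * b)) (cm (x * y ^ i) t) := fun i => by
      induction i with
      | zero => simpa using ha
      | succ i ih =>
        rw [pow_succ, ← mul_assoc, cm_mul_left, add_mul, one_mul, ← add_assoc, pow_add]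
        refine Cg.mul ?_ hb (nE (pow_mem hw b))
        have := (Cg.conj (wp _ (inv_mem (le_NS h.le hy)) (a + i * b))).trans
          ((ih.mul_left y⁻¹).mul_right (inv_mem (inv_mem (nE hy))))
        rwa [inv_inv] at this
    have : ¬ 3 ∣ b := fun d => e (hb.mem le_rfl (w0 b d))
    by_cases b1 : b % 3 = 1
    · exact ⟨2 * a, (q _).mem le_rfl (w0 _ (by
        rw [← Nat.div_add_mod b 3, b1]; exact ⟨a + 2 * a * (b / 3), by ring⟩))⟩
    · exact ⟨a, (q _).mem le_rfl (w0 _ (by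
        rw [← Nat.div_add_mod b 3, show b % 3 = 2 by omega]; exact ⟨a + a * (b / 3), by ring⟩))⟩
  obtain ⟨g, hg, gn⟩ := h.exg
  have u0 : fn (cA E s * g⁻¹) w ∈ E := fn_mem _ hw
  have u1 := k0 _ (mul_mem (h.cA_mem hs.1) (inv_mem hg)) (not_mem_mul (cA_M h hs.1) (by simpa using gn))
  set u := fn (cA E s * g⁻¹) w with hu
  have c0 : cm u t ∈ E := cm_mem u0 ht.2
  obtain ⟨b, hb⟩ := h2 u u0
  have k2 : ∀ i : ℕ, Cg D (u * cm u t ^ i) (fn (cA E (t ^ i)) u) := fun i => by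
    rw [fn_cA (pow_mem ht.2 i) u0]
    induction i with
    | zero => simpa using Cg.refl u
    | succ i ih =>
      have e := Cg.conj ((hb.pow (nE (pow_mem hw b)) i).cm_mem (fun c hc => cm_mem hc (hn ht)) le_normalizer
        (by rw [← pow_mul]; exact wp t ht _))
      rw [pow_succ' t, show t * t ^ i * u * (t * t ^ i)⁻¹ = t * (t ^ i * u * (t ^ i)⁻¹) * t⁻¹ by group]
      refine Cg.trans ?_ ((ih.mul_left t).mul_right (inv_mem (hn ht)))
      rw [show t * (u * cm u t ^ i) * t⁻¹ = t * u * t⁻¹ * (t * cm u t ^ i * t⁻¹) by group, ← mul_cm u t, pow_succ',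
        ← mul_assoc]
      exact e.mul_left _
  have k3 : cm (fn g (cm u t)) t ∉ D := fun e => by
    have f := hb.fn (hD hg) (pow_mem hw b) c0
    rw [(mulOn_fn g).map_pow hw] at f
    have f1 := f.symm.cm_mem (fun c hc => cm_mem hc (hn ht)) le_normalizer e
    have : ¬ 3 ∣ b := fun d => u1 (hb.mem le_rfl (w0 b d))
    have f2 : fn g w ^ b ∈ c1 D t := ⟨nE (pow_mem (fn_mem g hw) b), f1⟩
    have f3 : fn g w ^ 3 ∈ c1 D t := by
      rw [← (mulOn_fn g).map_pow hw]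
      exact ⟨nE (fn_mem g (pow_mem hw 3)), cm_mem (stab_maps (hD hg) w3) (hn ht)⟩
    exact k0 g hg gn (mem_of_pow3 f2 f3 this).2
  obtain ⟨i, hi⟩ := k1 _ (fn_mem g u0) _ (fn_mem g c0) k3
  have n1 := mul_mem (pow_mem ht i) hs
  refine k0 _ (cj_mem h hg n1.1) (nm' h hg gn n1 (sn i)) ?_
  have f := (k2 i).fn (hD hg) (mul_mem u0 (pow_mem c0 i)) (fn_mem _ u0)
  rw [mulOn_fn g u0 (pow_mem c0 i), (mulOn_fn g).map_pow c0] at f
  rw [cA_mul (pow_mem ht.2 i) hs.2, mul_assoc, mul_assoc, fn_mul, fn_mul]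
  exact f.cm_mem (fun c hc => cm_mem hc (hn ht)) le_normalizer hi

end CF.Th3
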