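import Cfsg.Agent.Th3.F
import Cfsg.Agent.Th3.C

/-! The ladder along the chain of normal subgroups, and images of elements under the automizer. -/

set_option autoImplicit false
set_option linter.style.haveILetI false
set_option linter.unusedSimpArgs false

namespace CF.Th3

open Cfsg Cfsg.FusionSystem Subgroup CF.Fus CF.FusU CF.Comp

variable {Ω : Type*} [Group Ω] {S E U W : Subgroup Ω} {F : FusionSystem S} {v : ℕ → Ω}
  {Y M : Subgroup (MulAut E)} {g α β : MulAut E} {s t x y : Ω} {a b c j k r : ℕ} {A B D ys : List ℕ}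

instance fact3 : Fact (Nat.Prime 3) := ⟨Nat.prime_three⟩

theorem pow_lt (hk : k < 10) : 3 ^ k < 59049 := Nat.pow_lt_pow_right (by decide) hk

theorem Md.gen_mem (h : Md S v) (hk : k < 10) : v (3 ^ k) ∈ Z v (k + 1) :=
  h.Z_of_lt hk (Nat.pow_lt_pow_right (by decide) k.lt_succ_self)

theorem Md.ex_pow (h : Md S v) (hk : k < 10) (hx : x ∈ Z v (k + 1)) : ∃ i : ℕ, Cg (Z v k) (v (3 ^ k) ^ i) x := by
  haveI := h.fin
  refine Th3.ex_pow (h.mem (pow_lt hk)) (h.Z_norm hk.le (h.mem (pow_lt hk))) (cl_le.2 (fun c hc => ?_) hx)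
  rcases (by decide : ∀ k < 10, ∀ c ∈ zl (k + 1), c ∈ zl k ∨ c = 3 ^ k) k hk c hc with e | rfl
  exacts [mem_sup_left (mem_cl e), mem_sup_right (mem_zpowers _)]

theorem Md.lv (h : Md S v) (hk : k ≤ 10) (i : ∀ j ≤ k, Y ≤ stab E (Z v j)) (ht : t ∈ NS S E) :
    Lv Y (cA E t) (Z v k) := by
  induction k with
  | zero => rw [h.Z_zero]; exact Lv.bot
  | succ k ih =>
    exact (ih (by omega) fun j hj => i j (by omega)).stepc ht.2 (i _ le_rfl) fun x _ hx => h.cm_Z hk hx ht.1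

/-- the ladder stops at level `k` -/
structure Lk (F : FusionSystem S) (v : ℕ → Ω) (E : Subgroup Ω) (Y M : Subgroup (MulAut E)) (k : ℕ) : Prop where
  md : Md S v
  mx : Mx F 3 E Y M
  lt : k < 10
  inv : ∀ j ≤ k, Y ≤ stab E (Z v j)
  triv : ∀ j < k, ∀ α ∈ Y, ∀ x ∈ Z v (j + 1), Cg (Z v j) x (fn α x)
  le : Z v (k + 1) ≤ E
  all : ∀ g ∈ Y, g ∉ M → ∀ s ∈ S, s ∈ E ↔ cm (fn g (v (3 ^ k))) s ∈ Z v k

theorem exists_lk (h : Md S v) (m : Mx F 3 E Y M) : ∃ k, Lk F v E Y M k := by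
  by_contra c
  have key : ∀ k ≤ 10, (∀ j ≤ k, Y ≤ stab E (Z v j)) ∧
      (∀ j < k, ∀ α ∈ Y, ∀ x ∈ Z v (j + 1), Cg (Z v j) x (fn α x)) ∧ Z v k ≤ E := fun k hk => by
    induction k with
    | zero => exact ⟨fun j hj => by rw [Nat.le_zero.1 hj, h.Z_zero]; exact le_stab_bot,
        fun _ h => absurd h (Nat.not_lt_zero _), by rw [h.Z_zero]; exact bot_le⟩
    | succ k ih =>
      obtain ⟨i1, i2, i3⟩ := ih (by omega)
      have l : Z v (k + 1) ≤ E := fun w hw =>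
        have n := m.mem_NS (h.Z_le hk hw) fun x hx => i3 (h.cm_Z' hk (m.le hx) hw)
        lv_top m.toMn n (h.lv (by omega) i1 n) fun x hx => h.cm_Z' hk (m.le hx) hw
      have n := h.Z_norm (k := k) (by omega)
      have w := h.gen_mem hk
      have f := (lad m.toMn (i1 k le_rfl) n (l w) fun s hs => h.cm_Z hk w hs).resolve_right
        fun e => c ⟨k, h, m, hk, i1, i2, l, e⟩
      refine ⟨fun j hj => ?_, fun j hj => ?_, l⟩
      · rcases hj.eq_or_lt with rfl | e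
        · exact stab_of_fix (i1 k le_rfl) (l w) l (h.Z_mono k.le_succ hk) f (fun x hx => h.ex_pow hk hx) w
        · exact i1 j (by omega)
      · rcases Nat.lt_succ_iff_lt_or_eq.1 hj with e | rfl
        · exact i2 j e
        · intro α hα x hx
          obtain ⟨i, hi⟩ := h.ex_pow hk hx
          have := hi.fn (i1 j le_rfl hα) (pow_mem (l w) i) (l hx)
          rw [(mulOn_fn α).map_pow (l w)] at this
          exact hi.symm.trans (((f α hα).pow (n (m.le (l w))) i).trans this)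
  obtain ⟨t, ht, tn⟩ := m.ext
  exact tn ((key 10 le_rfl).2.2 (h.Z_ten.symm ▸ ht.1))

theorem Lk.cj (h : Lk F v E Y M k) (hs : s ∈ S) : Lk F (fun c => s⁻¹ * v c * s) E Y M k := by
  have e : ∀ j ≤ 10, Z (fun c => s⁻¹ * v c * s) j = Z v j := fun j hj => h.md.Z_cj hs hj
  have l := h.lt
  refine ⟨h.md.cj hs, h.mx, l, fun j hj => e j (by omega) ▸ h.inv j hj, fun j hj => ?_, e _ l ▸ h.le, fun g g1 g2 t ht => ?_⟩
  · rw [e j (by omega), e _ (by omega)]; exact h.triv j hj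
  · have w := h.md.gen_mem l
    have n := h.md.Z_norm l.le
    have c : Cg (Z v k) (v (3 ^ k)) (s⁻¹ * v (3 ^ k) * s) := by
      simpa using Cg.conj (h.md.cm_Z l w (inv_mem hs))
    have c' := c.fn (h.inv k le_rfl g1) (h.le w) (c.mem ((h.md.Z_mono k.le_succ l).trans h.le) (h.le w))
    rw [e k l.le, h.all g g1 g2 t ht]
    exact ⟨c'.cm_mem (fun c hc => cm_mem hc (n ht)) le_normalizer,
      c'.symm.cm_mem (fun c hc => cm_mem hc (n ht)) le_normalizer⟩

/-- all images of `x` lie in `U` -/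
def Im (E : Subgroup Ω) (Y : Subgroup (MulAut E)) (x : Ω) (U : Subgroup Ω) : Prop := x ∈ E ∧ ∀ α ∈ Y, fn α x ∈ U

theorem Im.top (hx : x ∈ E) (h : E ≤ U) : Im E Y x U := ⟨hx, fun α _ => h (fn_mem α hx)⟩

theorem Im.mono (h : Im E Y x U) (l : U ≤ W) : Im E Y x W := ⟨h.1, fun α hα => l (h.2 α hα)⟩

theorem Im.stab (h : Y ≤ stab E U) (l : U ≤ E) (hx : x ∈ U) : Im E Y x U := ⟨l hx, fun _ hα => stab_maps (h hα) hx⟩

theorem Im.cen' (h : Im E Y y U) (hW : Y ≤ Fus.stab E W) (hx : x ∈ E) (k : ∀ u ∈ U, cm x u ∈ W) (hα : α ∈ Y) :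
    cm (fn α x) y ∈ W := by
  rw [← fn_fn_inv α y, ← fn_cm α hx (fn_mem _ h.1)]
  exact stab_maps (hW hα) (k _ (h.2 _ (inv_mem hα)))

theorem stab_of_im (h : ∀ c ∈ A, Im E Y (v c) (cl v A)) : Y ≤ stab E (cl v A) :=
  le_stab (cl_le.2 fun c hc => (h c hc).1) fun α hα x hx => by
    refine closure_induction (p := fun x _ => x ∈ E ∧ fn α x ∈ cl v A) ?_ ?_ ?_ ?_ hx |>.2
    · rintro _ ⟨c, hc, rfl⟩; exact ⟨(h c hc).1, (h c hc).2 α hα⟩
    · rw [(mulOn_fn α).map_one]; exact ⟨one_mem _, one_mem _⟩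
    · exact fun x y _ _ a b => ⟨mul_mem a.1 b.1, by rw [mulOn_fn α a.1 b.1]; exact mul_mem a.2 b.2⟩
    · exact fun x _ a => ⟨inv_mem a.1, by rw [(mulOn_fn α).map_inv a.1]; exact inv_mem a.2⟩

/-- the centralizer in `A` of `ys` modulo the `j`-th term is `D` -/
noncomputable def CE (A ys : List ℕ) (j : ℕ) (D : List ℕ) : Bool := band (CC D ys j)
  (CV A D fun r => Bool.rec (lany (fun y => Nat.ble (Nat.pow 3 j) (cc r y)) ys) true (Nat.beq r 0))

/-- the elements of order three in `A` lie in `D` -/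
noncomputable def OR (A D : List ℕ) : Bool := band (LE (zl 5) D)
  (CV A (zl 5) fun r => Bool.rec (allN 243 fun u => lt 0 (cu (mu r u))) true (mm D r))

namespace Md

variable (h : Md S v)
include h

theorem not_cm (ha : a < 59049) (hb : b < 59049) (hj : j ≤ 10) (e : Nat.ble (Nat.pow 3 j) (Th3.cc a b) = true) :
    cm (v a) (v b) ∉ Z v j := by
  rw [← h.cc ha hb, h.mem_Z hj (cc_lt ha hb), not_lt]; exact ble_iff.1 e

theorem CE_spec (e : CE A ys j D = true) (hx : x ∈ cl v A) (k : ∀ y ∈ ys, cm x (v y) ∈ Z v j)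
    (hj : j ≤ 10 := by decide) : x ∈ cl v D := by
  obtain ⟨e1, e2⟩ := band_iff.1 e
  obtain ⟨r, r1, r2, -, r3⟩ := h.CV_spec e2 hx
  rcases brec_or.1 r2 with r0 | r0
  · simpa [beq_iff.1 r0, h.zero] using r3
  obtain ⟨y, y1, y2⟩ := lany_iff.1 r0
  have o := band_iff.1 (band_iff.1 e1).1
  exact absurd (Cg.cm_mem (Cg.symm r3) (fun c hc => h.CC_spec e1 hc (mem_cl y1) hj)
    ((h.cl_le_S o.1).trans (h.Z_norm hj)) (k y y1)) (h.not_cm r1 (okl_iff.1 o.2 y y1) hj y2)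

theorem OR_spec (e : OR A D = true) (hx : x ∈ cl v A) (k : x ^ 3 = 1) : x ∈ cl v D := by
  obtain ⟨e1, e2⟩ := band_iff.1 e
  obtain ⟨r, r1, r2, -, r3⟩ := h.CV_spec e2 hx
  rcases brec_or.1 r2 with r0 | r0
  · exact Cg.mem r3 (h.LE_spec e1) (h.mm_spec (band_iff.1 (band_iff.1 e1).1).2 r1 r0)
  obtain ⟨u, u1, u2⟩ := h.ex_Z (k := 5) (by decide) r3
  have := lt_iff.1 (allN_spec r0 (by decide) u u1)
  have l : u < 59049 := by omega
  rw [← mul_inv_cancel_left (v r) x, ← u2, ← h.mul r1 l, ← h.cu (mu_lt r1 l), h.one_iff (cu_lt (mu_lt r1 l))] at k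
  omega

theorem im_cen (h0 : Im E Y (v a) (cl v A)) (hy : ∀ y ∈ ys, Im E Y (v y) (cl v B)) (hj : Y ≤ stab E (Z v j))
    (e : band (CC [a] B j) (CE A ys j D) = true := by decide +kernel) (hj' : j ≤ 10 := by decide) :
    Im E Y (v a) (cl v D) :=
  ⟨h0.1, fun α hα => h.CE_spec (band_iff.1 e).2 (h0.2 α hα) (fun y k => (hy y k).cen' hj h0.1
    (fun _ hu => h.CC_spec (band_iff.1 e).1 (mem_cl List.mem_cons_self) hu hj') hα) hj'⟩

theorem im_ord (h0 : Im E Y (v a) (cl v A))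
    (e : band (band (lt a 59049) (Nat.beq (Th3.cu a) 0)) (OR A D) = true := by decide +kernel) :
    Im E Y (v a) (cl v D) := by
  simp only [band_iff, lt_iff, beq_iff] at e
  exact ⟨h0.1, fun α hα => h.OR_spec e.2 (h0.2 α hα) (by
    rw [← (mulOn_fn α).map_pow h0.1, ← h.cu e.1.1, e.1.2, h.zero, (mulOn_fn α).map_one])⟩

theorem im_cm (h1 : Im E Y (v a) (cl v A)) (h2 : Im E Y (v b) (cl v B))
    (e : band (band (band (lt a 59049) (lt b 59049)) (Nat.beq (Th3.cc a b) c)) (CC A B j) = true := by decide +kernel)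
    (hj : j ≤ 10 := by decide) : Im E Y (v c) (Z v j) := by
  simp only [band_iff, lt_iff, beq_iff] at e
  rw [← e.1.2, h.cc e.1.1.1 e.1.1.2]
  exact ⟨cm_mem' h1.1 h2.1, fun α hα => by
    rw [fn_cm α h1.1 h2.1]; exact h.CC_spec e.2 (h1.2 α hα) (h2.2 α hα) hj⟩

theorem cg (e : band (band (lt a 59049) (lt b 59049)) (lt (mu (iv a) b) (Nat.pow 3 j)) = true := by decide +kernel)
    (hj : j ≤ 10 := by decide) : Cg (Z v j) (v a) (v b) := by
  simp only [band_iff, lt_iff] at e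
  rw [Cg, ← h.inv e.1.1, ← h.mul (iv_lt e.1.1).1 e.1.2]
  exact h.Z_of_lt hj e.2

end Md

namespace Lk

variable (h : Lk F v E Y M k)
include h

theorem Zle (hj : j ≤ k + 1) : Z v j ≤ E := (h.md.Z_mono hj h.lt).trans h.le

theorem imZ (hj : j ≤ k) (hc : c < 3 ^ j) : Im E Y (v c) (Z v j) :=
  Im.stab (h.inv j hj) (h.Zle (by omega)) (h.md.Z_of_lt (hj.trans h.lt.le) hc)

theorem w_mem : v (3 ^ k) ∈ E := h.le (h.md.gen_mem h.lt)

theorem imS (hx : x ∈ E) : Im E Y x (cl v g10) := Im.top hx (h.mx.le.trans h.md.S_eq.le)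

theorem not_cen (i : Im E Y (v (3 ^ k)) (cl v A)) (e : CC A g10 k = true) : False := by
  obtain ⟨t, ht, tn⟩ := h.mx.ext
  obtain ⟨g, g1, g2⟩ := h.mx.exg
  exact tn ((h.all g g1 g2 t ht.1).2 (h.md.CC_spec e (i.2 g g1) (h.md.S_eq ▸ ht.1) h.lt.le))

theorem lt_five : k < 5 := by
  by_contra c
  have := h.lt
  have m := h.md
  obtain rfl | rfl | e : k = 5 ∨ k = 6 ∨ 7 ≤ k := by omega
  · exact h.not_cen (m.im_cen (ys := [3, 9]) (D := [0, 0, 2187, 0, 243, 81, 27, 9, 3, 1]) (h.imS h.w_mem)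
      (fun y hy => h.imZ (j := 3) (by decide) (by revert y; decide)) (h.inv 0 (by decide))) (by decide +kernel)
  · exact h.not_cen (m.im_cen (ys := [9]) (D := zl 8) (m.im_cen (ys := [3])
      (D := [19683, 0, 2187, 729, 243, 81, 27, 9, 3, 1]) (h.imS h.w_mem)
      (fun y hy => h.imZ (j := 2) (by decide) (by revert y; decide)) (h.inv 0 (by decide)))
      (fun y hy => h.imZ (j := 3) (by decide) (by revert y; decide)) (h.inv 1 (by decide))) (by decide +kernel)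
  · exact h.not_cen (h.imS h.w_mem) (by interval_cases k <;> decide +kernel)

end Lk

end CF.Th3
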