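import Cfsg.Agent.Th3.C
import Cfsg.Agent.Th3.G

/-! Classes of elements of order three modulo the first terms of the chain. -/

set_option autoImplicit false
set_option maxRecDepth 100000
set_option Elab.async false

namespace CF.Th3

open CF.Comp

/-- every coset of the `k`-th term (order `n`) that passes the filter is conjugate to the coset of a representative -/
noncomputable def CL (n m b : ℕ) (ys : List ℕ) (tab : BT ℕ) (reps : List ℕ) : Bool :=
  allN m fun i => force (Nat.mul n i) fun c => Bool.rec (Bool.rec true (Bool.rec true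
    (force (r16 tab (Nat.div i 243) (Nat.mod i 243)) fun s => band (lt s 59049)
      (force (cjc c s) fun d => lm reps (Nat.sub d (Nat.mod d n))))
    (anyN n fun z => Nat.beq (cu (mu c z)) 0)) (lall (fun y => Nat.beq (cc c y) 0) ys)) true (lt c b)

/-- `E` is the centralizer of the representatives modulo the `k`-th term -/
noncomputable def CEQ (k : ℕ) (q : List ℕ × List ℕ) : Bool := band (CC q.2 q.1 k)
  (CVS q.1 fun t => Bool.rec (lall (fun r => Nat.ble (Nat.pow 3 k) (cc r t)) q.2) true (Nat.beq t 0))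

/-- all representatives -/
noncomputable def rps (L : List (List ℕ × List ℕ)) : List ℕ :=
  List.rec (motive := fun _ => List ℕ) [] (fun q _ r => lapp q.2 r) L

/-- the subgroups at level 0 -/
def L0 : List (List ℕ × List ℕ) :=
  [([0, 6561, 2187, 0, 243, 81, 27, 9, 3, 1], [12, 24]),
  ([0, 6561, 2349, 0, 0, 0, 27, 9, 3, 1], [2355, 4458]),
  ([0, 6642, 2349, 0, 0, 0, 27, 9, 3, 1], [2349, 4455]),
  ([0, 6723, 2349, 0, 0, 0, 27, 9, 3, 1], [2352, 4461]),
  ([0, 6723, 2352, 0, 0, 0, 0, 12, 0, 1], [6723, 8832, 10941, 13230, 15339, 17691]),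
  ([19683, 0, 0, 1215, 0, 81, 27, 9, 3, 1], [99, 171]),
  ([19683, 0, 2187, 729, 243, 81, 27, 9, 3, 1], [3, 6]),
  ([19926, 0, 3888, 0, 0, 81, 27, 9, 3, 1], [90, 180]),
  ([19926, 0, 3888, 0, 0, 90, 0, 0, 3, 1], [4068, 3888, 3978, 5742, 5805, 5652, 19926, 20016, 20106, 23895, 23832, 23985, 25011, 24921, 24858, 39879, 39969, 40059, 43137, 43047, 43200, 44892, 44802, 44712]),
  ([20169, 0, 0, 0, 0, 81, 27, 0, 3, 1], [20169, 20170, 20171, 39609, 39610, 39611]),
  ([20169, 0, 2187, 0, 0, 81, 27, 9, 3, 1], [27, 54]),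
  ([20169, 0, 3402, 0, 0, 81, 27, 9, 3, 1], [81, 162])]

/-- the subgroups at level 1 -/
def L1 : List (List ℕ × List ℕ) :=
  [([0, 6561, 2187, 0, 0, 81, 27, 9, 3, 1], [2349, 2352, 2355, 4455, 4458, 4461]),
  ([0, 6561, 2187, 729, 243, 81, 27, 9, 3, 1], [9, 18]),
  ([0, 6723, 2349, 0, 0, 0, 0, 9, 3, 1], [6723, 8829, 10935, 13230, 15336, 17685]),
  ([19683, 0, 2187, 0, 243, 81, 27, 9, 3, 1], [27, 54]),
  ([19683, 0, 2187, 729, 0, 81, 27, 9, 3, 1], [153, 198]),
  ([19683, 0, 2187, 1215, 0, 81, 27, 9, 3, 1], [99, 171]),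
  ([19926, 0, 2187, 729, 0, 81, 27, 9, 3, 1], [144, 207]),
  ([19926, 0, 3888, 0, 0, 81, 0, 9, 3, 1], [4068, 3888, 3978, 5742, 5805, 5652]),
  ([19926, 0, 3888, 0, 0, 90, 27, 0, 3, 1], [19926, 20016, 20106, 39879, 39969, 40059]),
  ([19926, 0, 3888, 0, 0, 90, 36, 0, 3, 1], [23895, 23832, 23985, 44892, 44802, 44712]),
  ([19926, 0, 3888, 0, 0, 90, 45, 0, 3, 1], [25011, 24921, 24858, 43137, 43047, 43200]),
  ([20169, 0, 0, 0, 0, 81, 27, 0, 3, 1], [20169, 39609])]

/-- the subgroups at level 2 -/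
def L2 : List (List ℕ × List ℕ) :=
  [([0, 6561, 2187, 0, 0, 81, 27, 9, 3, 1], [2349, 4455]),
  ([19683, 0, 2187, 729, 243, 81, 27, 9, 3, 1], [27, 54, 81, 90, 99, 162, 171, 180]),
  ([19926, 0, 3888, 0, 0, 81, 27, 9, 3, 1], [4050, 3888, 3969, 5670, 5751, 5589, 19926, 19935, 19944, 23823, 23832, 23814, 24795, 24804, 24786, 39852, 39861, 39870, 43029, 43011, 43020, 44721, 44730, 44712]),
  ([20169, 0, 0, 0, 0, 81, 27, 9, 3, 1], [20169, 39609])]

/-- the subgroups at level 3 -/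
def L3 : List (List ℕ × List ℕ) :=
  [([0, 6561, 2187, 0, 243, 81, 27, 9, 3, 1], [2349, 4455]),
  ([19683, 0, 2187, 729, 243, 81, 27, 9, 3, 1], [81, 162])]

/-- the subgroups at level 4 -/
def L4 : List (List ℕ × List ℕ) :=
  [([0, 6561, 2187, 729, 243, 81, 27, 9, 3, 1], [2187, 4374])]

theorem kQ0 : lall (CEQ 0) L0 = true := by decide +kernel

theorem kL0 : CL 1 59049 3 [] tC0 (rps L0) = true := by decide +kernel

theorem kQ1 : lall (CEQ 1) L1 = true := by decide +kernel

theorem kL1 : CL 3 19683 9 [] tC1 (rps L1) = true := by decide +kernel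

theorem kQ2 : lall (CEQ 2) L2 = true := by decide +kernel

theorem kL2 : CL 9 6561 27 [3] tC2 (rps L2) = true := by decide +kernel

theorem kQ3 : lall (CEQ 3) L3 = true := by decide +kernel

theorem kL3 : CL 27 2187 81 [3, 9] tC3 (rps L3) = true := by decide +kernel

theorem kQ4 : lall (CEQ 4) L4 = true := by decide +kernel

theorem kL4 : CL 81 729 729 [3, 9, 27] tC4 (rps L4) = true := by decide +kernel

end CF.Th3
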