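import Cfsg.Agent.Th3.H
import Cfsg.Agent.Th3.I

/-! Reduction to explicit subgroups, and the rules that exclude them. -/

set_option autoImplicit false
set_option linter.style.haveILetI false
set_option linter.unusedSimpArgs false

namespace CF.Th3

open Cfsg Cfsg.FusionSystem Subgroup CF.Fus CF.FusU CF.Comp

variable {Ω : Type*} [Group Ω] {S E U W : Subgroup Ω} {F : FusionSystem S} {v : ℕ → Ω}
  {Y M : Subgroup (MulAut E)} {g α β : MulAut E} {s t x y : Ω} {a b c j k r : ℕ} {A B D R ys : List ℕ}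

/-- `E` is given by the list `A`, and a representative of the image of the generator lies in `R` -/
structure Lr (F : FusionSystem S) (v : ℕ → Ω) (E : Subgroup Ω) (Y M : Subgroup (MulAut E)) (k : ℕ) (A R : List ℕ) :
    Prop extends Lk F v E Y M k where
  eq : E = cl v A
  ex : ∃ r ∈ R, r < 59049 ∧ ∃ g ∈ Y, g ∉ M ∧ Cg (Z v k) (v r) (fn g (v (3 ^ k)))

theorem mem_rps {L : List (List ℕ × List ℕ)} (h : r ∈ rps L) : ∃ q ∈ L, r ∈ q.2 := by
  induction L with
  | nil => exact absurd h List.not_mem_nil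
  | cons q L ih =>
    have e : rps (q :: L) = lapp q.2 (rps L) := rfl
    rw [e, lapp_eq, List.mem_append] at h
    rcases h with h | h
    · exact ⟨q, List.mem_cons_self, h⟩
    · obtain ⟨q, h1, h2⟩ := ih h
      exact ⟨q, List.mem_cons_of_mem _ h1, h2⟩

theorem Lk.exists_lr (h : Lk F v E Y M k) {L : List (List ℕ × List ℕ)} {tab : BT ℕ} (hk : k < 5) (hj : k ≤ j)
    (hj' : j ≤ 10) (e : CL (3 ^ k) (3 ^ (10 - k)) (3 ^ j) ys tab (rps L) = true) (eQ : lall (CEQ k) L = true)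
    (e1 : CC (zl j) g10 k = true) (e2 : CC (zl (k + 1)) (zl k) 0 = true) (e3 : ∀ y ∈ ys, y < 3 ^ k)
    (e4 : cu (3 ^ k) = 0) : ∃ w, (∀ j ≤ 10, Z w j = Z v j) ∧ ∃ q ∈ L, Lr F w E Y M k q.1 q.2 := by
  have m := h.md
  obtain ⟨g, g1, g2⟩ := h.mx.exg
  obtain ⟨t, ht, tn⟩ := h.mx.ext
  obtain ⟨c0, c1, c2⟩ := m.sur (h.mx.le (fn_mem g h.w_mem))
  have p0 : 0 < 3 ^ k := by positivity
  have sp : Cg (Z v k) _ _ := m.split hk c1
  have ec : c0 - c0 % 3 ^ k = 3 ^ k * (c0 / 3 ^ k) := by have := Nat.mod_add_div c0 (3 ^ k); omega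
  have cl0 : c0 - c0 % 3 ^ k < 59049 := by omega
  have := allN_spec e (pow_le (by omega)) (c0 / 3 ^ k) (by
    rw [Nat.div_lt_iff_lt_mul p0, ← pow_add, Nat.sub_add_cancel (by omega)]; exact c1)
  rw [force_eq, show Nat.mul (3 ^ k) (c0 / 3 ^ k) = c0 - c0 % 3 ^ k from ec.symm] at this
  have hp := pow_le (k := k) (by omega)
  rcases brec_or.1 this with q | q
  · exact absurd ((h.all g g1 g2 t ht.1).2 (c2 ▸ m.CC_spec e1 (sp.mem (m.Z_mono hj hj') (m.Z_of_lt hj' (lt_iff.1 q)))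
      (m.S_eq ▸ ht.1) (by omega))) tn
  replace q := brec_imp.1 (brec_imp.1 q (lall_iff.2 fun y hy => beq_iff.2 ?_)) (by_contra fun z => ?_)
  · simp only [force_eq, band_iff, lt_iff] at q
    obtain ⟨s1, s2⟩ := q
    generalize r16 tab _ _ = s at s1 s2
    obtain ⟨q, q1, q2⟩ := mem_rps (mem_of_lm s2)
    have d := cjc_lt cl0 s1
    have sp2 : Cg (Z v k) _ _ := m.split hk d
    have sS := m.mem s1
    have n := m.Z_norm (k := k) (by omega)
    have h' := h.cj sS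
    have eZ := m.Z_cj sS (k := k) (by omega)
    have w := m.gen_mem h.lt
    have c3 : Cg (Z v k) (v (3 ^ k)) ((v s)⁻¹ * v (3 ^ k) * v s) := by
      simpa using Cg.conj (m.cm_Z h.lt w (inv_mem sS))
    have c4 := c3.fn (h.inv k le_rfl g1) h.w_mem (c3.mem (h.Zle k.le_succ) h.w_mem)
    have c5 := (sp2.mul_left (v s)⁻¹).mul_right (n sS)
    rw [m.cjc cl0 s1, show (v s)⁻¹ * (v s * v (c0 - c0 % 3 ^ k) * (v s)⁻¹) * v s = v (c0 - c0 % 3 ^ k) by group] at c5
    have c6 := c5.trans (sp.trans (c2 ▸ c4))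
    rw [← eZ] at c6
    have r1 : cjc (c0 - c0 % 3 ^ k) s - cjc (c0 - c0 % 3 ^ k) s % 3 ^ k < 59049 := by omega
    obtain ⟨f1, f2⟩ := band_iff.1 (lall_iff.1 eQ q q1)
    have m' := h'.md
    have n' := m'.Z_norm (k := k) (by omega)
    have l : cl _ q.1 ≤ E := fun x hx => (h'.all g g1 g2 x (m'.cl_le_S (band_iff.1 (band_iff.1 f1).1).2 hx)).2
      (c6.cm_mem (fun c hc => cm_mem hc (n' (m'.cl_le_S (band_iff.1 (band_iff.1 f1).1).2 hx))) le_normalizer
        (m'.CC_spec f1 (mem_cl q2) hx (by omega)))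
    refine ⟨_, fun j hj => m.Z_cj sS hj, q, q1, h', le_antisymm (fun x hx => ?_) l, _, q2, r1, g, g1, g2, c6⟩
    obtain ⟨u, u1, u2, u3⟩ := m'.CVS_spec f2 (h.mx.le hx)
    rcases brec_or.1 u2 with u0 | u0
    · simpa only [beq_iff.1 u0, m'.zero, inv_one, one_mul] using u3
    · exact absurd (c6.symm.cm_mem (fun c hc => cm_mem hc (n' (m'.mem u1))) le_normalizer
        ((h'.all g g1 g2 _ (m'.mem u1)).1 (Cg.mem' u3 l hx))) (m'.not_cm r1 u1 (by omega) (lall_iff.1 u0 _ q2))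
  · have y0 := e3 y hy
    have y1 := m.Z_of_lt (by omega) y0
    have := sp.symm.cm_mem (fun c hc => m.CC_spec e2 (m.Z_mono k.le_succ h.lt hc) y1) ((m.Z_le (by omega)).trans
      (m.Z_norm (by omega))) (c2 ▸ (h.imZ le_rfl y0).cen' (h.inv 0 k.zero_le) h.w_mem
        (fun u hu => m.CC_spec e2 (m.gen_mem h.lt) hu) g1)
    rw [← m.cc cl0 (by omega), m.mem_Z (by omega) (cc_lt cl0 (by omega))] at this
    omega
  · have := anyN_spec (Bool.eq_false_iff.2 z) hp _ (Nat.mod_lt c0 p0)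
    rw [mu_split hk c1, beq_false_iff] at this
    refine this ((m.one_iff (cu_lt c1)).1 ?_)
    rw [m.cu c1, c2, ← (mulOn_fn g).map_pow h.w_mem, ← m.cu (pow_lt h.lt), e4, m.zero, (mulOn_fn g).map_one]

theorem Lk.cases (h : Lk F v E Y M k) : ∃ w, (∀ j ≤ 10, Z w j = Z v j) ∧ ((∃ q ∈ L0, Lr F w E Y M 0 q.1 q.2) ∨
    (∃ q ∈ L1, Lr F w E Y M 1 q.1 q.2) ∨
    (∃ q ∈ L2, Lr F w E Y M 2 q.1 q.2) ∨ (∃ q ∈ L3, Lr F w E Y M 3 q.1 q.2) ∨
    ∃ q ∈ L4, Lr F w E Y M 4 q.1 q.2) := by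
  have := h.lt_five
  interval_cases k
  · exact (h.exists_lr (j := 1) this (by decide) (by decide) kL0 kQ0 (by decide +kernel) (by decide +kernel) (by decide)
      (by decide +kernel)).imp fun _ e => ⟨e.1, .inl e.2⟩
  · exact (h.exists_lr (j := 2) this (by decide) (by decide) kL1 kQ1 (by decide +kernel) (by decide +kernel) (by decide)
      (by decide +kernel)).imp fun _ e => ⟨e.1, .inr (.inl e.2)⟩
  · exact (h.exists_lr (j := 3) this (by decide) (by decide) kL2 kQ2 (by decide +kernel) (by decide +kernel) (by decide)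
      (by decide +kernel)).imp fun _ e => ⟨e.1, .inr (.inr (.inl e.2))⟩
  · exact (h.exists_lr (j := 4) this (by decide) (by decide) kL3 kQ3 (by decide +kernel) (by decide +kernel) (by decide)
      (by decide +kernel)).imp fun _ e => ⟨e.1, .inr (.inr (.inr (.inl e.2)))⟩
  · exact (h.exists_lr (j := 6) this (by decide) (by decide) kL4 kQ4 (by decide +kernel) (by decide +kernel) (by decide)
      (by decide +kernel)).imp fun _ e => ⟨e.1, .inr (.inr (.inr (.inr e.2)))⟩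

/-- `t` normalizes `A` -/
noncomputable def NM (A : List ℕ) (t : ℕ) : Bool := band (band (okl A) (lt t 59049)) (lall (fun a => mm A (cjc a t)) A)

/-- `c` does not lie in `A` -/
noncomputable def NI (r k c : ℕ) : Bool := band (lt c 59049) (Nat.ble (Nat.pow 3 k) (cc r c))

/-- the normalizer of `A` is `B` -/
noncomputable def NE (A : List ℕ) (r k : ℕ) (B : List ℕ) : Bool := band (band (CC [r] A k) (lall (NM A) B))
  (CVS B fun t => Bool.rec (lany (fun a => NI r k (cjc a t)) A) true (Nat.beq t 0))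

/-- a transvection -/
noncomputable def TV (A : List ℕ) (r k : ℕ) (B : List ℕ) (j w t s : ℕ) : Bool :=
  band (band (band (NE A r k B) (CC [w] B j)) (band (band (LE [w, cu t] A) (LE [t, s] B)) (lt (cu w) (Nat.pow 3 j))))
    (band (lall (NI r k) [t, s, mu t s, mu (mu t t) s])
      (lall (fun a => lany (fun u => lt (mu (iv u) (cc a t)) (Nat.pow 3 j)) [0, w, mu w w]) A))

namespace Md

variable (h : Md S v)
include h

theorem NM_spec (e : NM A a = true) : v a ∈ NS S (cl v A) := by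
  haveI := h.fin
  simp only [NM, band_iff, lall_iff, lt_iff] at e
  refine ⟨h.mem e.1.2, mem_normalizer_of_le (h.cl_le_S e.1.1) fun x hx => ?_⟩
  refine (cl_le (H := (cl v A).comap (MulAut.conj (v a)).toMonoidHom)).2 (fun c hc => ?_) hx
  have l := okl_iff.1 e.1.1 c hc
  show v a * v c * (v a)⁻¹ ∈ cl v A
  exact h.cjc l e.1.2 ▸ h.mm_spec e.1.1 (cjc_lt l e.1.2) (e.2 c hc)

theorem NI_spec (e : CC [r] A k = true) (e' : NI r k c = true) (hk : k ≤ 10 := by decide) : v c ∉ cl v A := fun m =>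
  h.not_cm (okl_iff.1 (band_iff.1 (band_iff.1 e).1).1 r List.mem_cons_self) (lt_iff.1 (band_iff.1 e').1) hk
    (band_iff.1 e').2 (h.CC_spec e (mem_cl List.mem_cons_self) m hk)

theorem NE_spec (e : NE A r k B = true) (hk : k ≤ 10 := by decide) : NS S (cl v A) = cl v B := by
  simp only [NE, band_iff, lall_iff] at e
  have l : cl v B ≤ NS S (cl v A) := cl_le.2 fun c hc => h.NM_spec (e.1.2 c hc)
  refine le_antisymm (fun s hs => ?_) l
  obtain ⟨u, u1, u2, u3⟩ := h.CVS_spec e.2 hs.1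
  rcases brec_or.1 u2 with u0 | u0
  · simpa only [beq_iff.1 u0, h.zero, inv_one, one_mul] using u3
  obtain ⟨a, a1, a2⟩ := lany_iff.1 u0
  refine absurd ?_ (h.NI_spec e.1.1 a2 hk)
  rw [h.cjc (okl_iff.1 (band_iff.1 (band_iff.1 e.1.1).1).2 a a1) u1]
  exact conj_mem_of_norm (Cg.mem' u3 l hs).2 (mem_cl a1)

theorem TV_spec {w t s : ℕ} (m : Mn 3 S E Y M) (hE : E = cl v A) (i : ∀ l ≤ j, Y ≤ stab E (Z v l)) (l : Z v j ≤ E)
    (e : TV A r k B j w t s = true := by decide +kernel) (hk : k ≤ 10 := by decide) (hj : j ≤ 10 := by decide) :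
    False := by
  haveI := h.fin
  simp only [TV, band_iff, lall_iff, lany_iff, lt_iff] at e
  obtain ⟨⟨⟨e1, e2⟩, ⟨e3, e4⟩, e5⟩, e6, e7⟩ := e
  have N := h.NE_spec e1 hk
  have e0 := (band_iff.1 (band_iff.1 e1).1).1
  rw [← hE] at N
  have o3 := okl_iff.1 (band_iff.1 (band_iff.1 e3).1).1
  have o4 := okl_iff.1 (band_iff.1 (band_iff.1 e4).1).1
  have lw := o3 w (by simp)
  have lt := o4 t (by simp)
  have ls := o4 s (by simp)
  have w0 : v w ∈ E := hE ▸ h.LE_spec e3 (mem_cl (by simp))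
  have t3 : v t ^ 3 ∈ E := h.cu lt ▸ hE ▸ h.LE_spec e3 (mem_cl (by simp))
  have t0 : v t ∈ NS S E := N ▸ h.LE_spec e4 (mem_cl (by simp))
  have n := h.Z_norm hj
  have h1 : ∀ n ∈ NS S E, cm (v w) n ∈ Z v j := fun n hn => h.CC_spec e2 (mem_cl (by simp)) (N ▸ hn) hj
  have ni : ∀ c ∈ [t, s, mu t s, mu (mu t t) s], v c ∉ E := fun c hc => hE ▸ h.NI_spec e0 (e6 c hc) hk
  refine tv m (i j le_rfl) l (NS_le.trans n) w0 h1 (h.cu lw ▸ h.Z_of_lt hj e5) t0 (ni t (by simp))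
    (fun x hx => ?_) (h.lv hj i t0) (N ▸ h.LE_spec e4 (mem_cl (c := s) (by simp))) fun i hi => ?_
  · refine ((cl_le (H := c1 _ (v t))).2 (fun a ha => ?_) (hE ▸ hx)).2
    have a0 : v a ∈ E := hE ▸ mem_cl ha
    have la := okl_iff.1 (band_iff.1 (band_iff.1 e0).1).2 a ha
    refine ⟨norm_sup (h.Z_le hj) (h.mem lw) (n (h.mem lw)) (n (m.le a0)) (h1 _ (le_NS m.le a0)), ?_⟩
    obtain ⟨u, u1, u2⟩ := e7 a ha
    have lu : u < 59049 ∧ v u ∈ zpowers (v w) := by
      simp only [List.mem_cons, List.not_mem_nil, or_false] at u1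
      rcases u1 with rfl | rfl | rfl
      exacts [⟨by decide, h.zero ▸ one_mem _⟩, ⟨lw, mem_zpowers _⟩,
        ⟨mu_lt lw lw, h.mul lw lw ▸ mul_mem (mem_zpowers _) (mem_zpowers _)⟩]
    have := h.Z_of_lt hj u2
    rw [h.mul (iv_lt lu.1).1 (cc_lt la lt), h.inv lu.1, h.cc la lt] at this
    exact Cg.mem this le_sup_left (mem_sup_right lu.2)
  · rw [← Nat.div_add_mod i 3, pow_add, pow_mul, mul_assoc, mul_mem_cancel_left (pow_mem t3 _)] at hi
    obtain q | q | q : i % 3 = 0 ∨ i % 3 = 1 ∨ i % 3 = 2 := by omega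
    · exact ni s (by simp) (by simpa [q] using hi)
    · exact ni (mu t s) (by simp) (by simpa [q, h.mul lt ls] using hi)
    · exact ni (mu (mu t t) s) (by simp) (by simpa [q, h.mul (mu_lt lt lt) ls, h.mul lt lt, pow_two] using hi)

end Md

namespace Lr

variable (h : Lr F v E Y M k A R)
include h

theorem im (e : band (band (okl A) (Th3.lt c 59049)) (mm A c) = true := by decide +kernel) : Im E Y (v c) (cl v A) :=
  Im.top (h.eq ▸ h.md.mem' e) h.eq.le

theorem fin1 (i : Im E Y (v a) (Z v j)) (e : Cg (Z v k) (v a) (v (3 ^ k))) (e1 : ∀ r ∈ R, 3 ^ j ≤ r := by decide)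
    (hj : k ≤ j := by decide) (hj' : j ≤ 10 := by decide) : False := by
  obtain ⟨r, r1, r2, g, g1, -, g3⟩ := h.ex
  have l := h.md.Z_mono hj hj'
  exact (e1 r r1).not_gt ((h.md.mem_Z hj' r2).1 (g3.mem' l ((e.fn (h.inv k le_rfl g1) i.1 h.w_mem).mem l (i.2 g g1))))

theorem fin2 (i : ∀ y ∈ ys, Im E Y (v y) (cl v B)) (hj : j ≤ k := by decide)
    (e : band (band (okl ys) (CC [Nat.pow 3 k] B j)) (lall (fun r => allN (Nat.pow 3 k) fun z =>
      lany (fun y => Nat.ble (Nat.pow 3 j) (cc (mu r z) y)) ys) R) = true := by decide +kernel) : False := by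
  obtain ⟨r, r1, r2, g, g1, -, g3⟩ := h.ex
  simp only [band_iff, lall_iff] at e
  have l := h.lt
  have p := pow_le l.le
  obtain ⟨z, z1, z2⟩ := h.md.ex_Z l.le g3
  obtain ⟨y, y1, y2⟩ := lany_iff.1 (allN_spec (e.2 r r1) p z z1)
  refine h.md.not_cm (mu_lt r2 (by omega)) (okl_iff.1 e.1.1 y y1) (by omega) y2 ?_
  rw [h.md.mul r2 (by omega), z2, mul_inv_cancel_left]
  exact (i y y1).cen' (h.inv j hj) h.w_mem
    (fun u hu => h.md.CC_spec e.1.2 (mem_cl List.mem_cons_self) hu (by omega)) g1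

theorem r1 (e : band (band (okl A) (CC [Nat.pow 3 k] A 0)) (lall (fun r => allN (Nat.pow 3 k) fun z =>
      lany (fun y => Nat.ble (Nat.pow 3 0) (cc (mu r z) y)) A) R) = true := by decide +kernel) : False :=
  h.fin2 (fun _ hy => Im.top (h.eq ▸ mem_cl hy) h.eq.le) k.zero_le e

end Lr

end CF.Th3
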