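import Cfsg.Agent.Th3.J

/-! Most of the explicit subgroups are not essential. -/

set_option autoImplicit false
set_option linter.style.haveILetI false
set_option linter.unusedSimpArgs false

namespace CF.Th3

open Cfsg Cfsg.FusionSystem Subgroup CF.Fus CF.FusU CF.Comp

variable {Ω : Type*} [Group Ω] {S E U W : Subgroup Ω} {F : FusionSystem S} {v : ℕ → Ω}
  {Y M : Subgroup (MulAut E)} {g α β : MulAut E} {s t x y : Ω} {a b c d e j i k r : ℕ} {A B D R ys : List ℕ}

/-- the centralizer of the second centre -/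
def lB : List ℕ := [19683, 0, 2187, 729, 243, 81, 27, 9, 3, 1]
/-- the centralizer of the fourth centre -/
def lR : List ℕ := [0, 0, 2187, 0, 0, 81, 27, 9, 3, 1]
/-- the centralizer of the third centre -/
def lC : List ℕ := [0, 0, 2187, 0, 243, 81, 27, 9, 3, 1]
/-- the normalizer of the pearl -/
def lN : List ℕ := [19926, 0, 3888, 0, 0, 81, 27, 9, 3, 1]
/-- the elementary abelian essential subgroup -/
def lE : List ℕ := [19926, 0, 3888, 0, 0, 90, 0, 0, 3, 1]
/-- the centre of its normalizer -/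
def lZ : List ℕ := [0, 0, 0, 0, 0, 90, 0, 0, 3, 1]

theorem Md.stab_cen (h : Md S v) (hA : Y ≤ stab E (cl v A)) (lA : cl v A ≤ E) (hB : Y ≤ stab E (cl v B))
    (lB : cl v B ≤ E) (hj : Y ≤ stab E (Z v j)) (e : band (LE D A) (CE A B j D) = true := by decide +kernel)
    (hj' : j ≤ 10 := by decide) : Y ≤ stab E (cl v D) ∧ cl v D ≤ E := by
  obtain ⟨e1, e2⟩ := band_iff.1 e
  have l := h.LE_spec e1
  exact ⟨stab_of_im fun c hc => ⟨lA (l (mem_cl hc)), fun α hα => h.CE_spec e2 (stab_maps (hA hα) (l (mem_cl hc)))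
    (fun y k => (Im.stab hB lB (mem_cl k)).cen' hj (lA (l (mem_cl hc)))
      (fun _ hu => h.CC_spec (band_iff.1 e2).1 (mem_cl hc) hu hj') hα) hj'⟩, l.trans lA⟩

namespace Lr

variable (h : Lr F v E Y M k A R)
include h

theorem st : Y ≤ stab E (cl v A) := h.eq ▸ stab_self.ge.trans' le_top

theorem le' : cl v A ≤ E := h.eq.ge

theorem r2 (a b j : ℕ) (e1 : band (band (okl A) (Th3.lt a 59049)) (mm A a) = true := by decide +kernel)
    (e2 : band (band (okl A) (Th3.lt b 59049)) (mm A b) = true := by decide +kernel)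
    (e3 : band (band (band (Th3.lt a 59049) (Th3.lt b 59049)) (Nat.beq (cc a b) (cc a b))) (CC A A j) = true := by
      decide +kernel)
    (e4 : band (band (Th3.lt (cc a b) 59049) (Th3.lt (3 ^ k) 59049)) (Th3.lt (mu (iv (cc a b)) (3 ^ k)) (Nat.pow 3 k)) = true :=
      by decide +kernel)
    (e5 : ∀ r ∈ R, 3 ^ j ≤ r := by decide) (hj : k ≤ j := by decide) (hj' : j ≤ 10 := by decide) : False :=
  h.fin1 (h.md.im_cm (h.im e1) (h.im e2) e3 hj') (h.md.cg e4 h.lt.le) e5 hj hj'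

theorem tv (r : ℕ) (B : List ℕ) (j w t s : ℕ) (e : TV A r k B j w t s = true := by decide +kernel)
    (hj : j ≤ k := by decide) : False :=
  h.md.TV_spec h.mx.toMn h.eq (fun l hl => h.inv l (hl.trans hj)) (h.Zle (by omega)) e h.lt.le (hj.trans h.lt.le)

end Lr

theorem no_K8 (h : Lr F v E Y M 0 [0, 6561, 2187, 0, 243, 81, 27, 9, 3, 1] [12, 24]) : False := by
  have m := h.md
  have c : ∀ y ∈ [39], Im E Y (v y) (cl v (zl 4)) := by
    simpa [Z] using m.im_cm (a := 2187) (b := 6561) (c := 39) (j := 4) h.im h.im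
  exact h.fin1 (m.im_cm (a := 2187) (b := 81) (c := 1) (j := 1) (m.im_cen (D := lR) h.im c (h.inv 0 le_rfl))
    (m.im_cen (D := lR) h.im c (h.inv 0 le_rfl))) (Cg.refl _)

theorem no_g3 (h : Lr F v E Y M 0 A R) (a b c : ℕ)
    (e1 : band (band (okl A) (lt a 59049)) (mm A a) = true := by decide +kernel)
    (e2 : band (band (okl A) (lt b 59049)) (mm A b) = true := by decide +kernel)
    (e3 : band (band (okl A) (lt c 59049)) (mm A c) = true := by decide +kernel)
    (e4 : band (band (band (lt a 59049) (lt b 59049)) (Nat.beq (cc a b) (cc a b))) (CC A A 5) = true := by decide +kernel)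
    (e5 : band (band (band (lt (cc a b) 59049) (lt c 59049)) (Nat.beq (cc (cc a b) c) 1)) (CC (zl 5) A 2) = true := by
      decide +kernel)
    (e6 : ∀ r ∈ R, 3 ^ 2 ≤ r := by decide) : False :=
  h.fin1 (h.md.im_cm (h.md.im_cm (h.im e1) (h.im e2) e4) (h.im e3) e5) (Cg.refl _) e6

theorem no_C4 (h : Lr F v E Y M 0 [20169, 0, 3402, 0, 0, 81, 27, 9, 3, 1] [81, 162]) : False := by
  have m := h.md
  have N : NS S E = cl v lB := h.eq ▸ m.NE_spec (r := 81) (k := 0) (by decide +kernel)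
  have i := m.im_cm (a := 20169) (b := 9) (c := 5) (j := 2) (m.im_ord (D := [20169, 0, 0, 0, 0, 81, 27, 9, 3, 1]) h.im)
    (m.im_ord (D := [20169, 0, 0, 0, 0, 81, 27, 9, 3, 1]) h.im)
  have c : ∀ x ∈ Z v 2, ∀ n ∈ NS S E, x * n = n * x := fun x hx n hn =>
    cm_eq_one.1 (mem_bot.1 (m.Z_zero ▸ m.CC_spec (A := zl 2) (B := lB) (by decide +kernel) hx (N ▸ hn)))
  have t : v 243 ∈ NS S E := N ▸ m.mem'
  have tn : v 243 ∉ E := h.eq ▸ m.NI_spec (r := 81) (k := 0) (by decide +kernel) (by decide +kernel)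
  obtain ⟨r, r1, r2, g, g1, g2, g3⟩ := h.ex
  have f := h.mx.fix i.1 (c _ (m.Z_of_lt (by decide) (by decide))) g1 g2 t tn (c _ (i.2 g g1) _ t)
  have l : zpowers (v 5) ≤ Z v 2 := zpowers_le.2 (m.Z_of_lt (by decide) (by decide))
  have s : Y ≤ stab E (zpowers (v 5)) := le_stab (zpowers_le.2 i.1) fun α hα x hx => by
    obtain ⟨n, rfl⟩ := hx
    rw [(mulOn_fn α).map_zpow i.1, f α hα]; exact ⟨n, rfl⟩
  rw [Cg, m.Z_zero, mem_bot, inv_mul_eq_one] at g3
  have := h.mx.key s h.w_mem (fun n hn => by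
    rw [cm_eq_one.2 (c _ (m.Z_of_lt (by decide) (by decide)) n hn)]; exact one_mem _) g1 g2 t tn (by
      rw [← g3, ← m.cc r2 (by decide)]
      rcases (by decide +kernel : ∀ r ∈ [81, 162], cc r 243 = 5 ∨ cc r 243 = mu 5 5) r r1 with e | e <;> rw [e]
      exacts [mem_zpowers _, m.mul (a := 5) (b := 5) (by decide) (by decide) ▸ mul_mem (mem_zpowers _) (mem_zpowers _)])
    g g1
  have := (m.mem_Z (by decide) r2).1 (g3 ▸ Cg.mem this l (m.Z_of_lt (by decide) (by decide)))
  exact absurd this ((by decide : ∀ r ∈ [81, 162], ¬ r < 3 ^ 2) r r1)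

theorem no_17 (h : Lr F v E Y M 1 [0, 6561, 2187, 0, 0, 81, 27, 9, 3, 1] [2349, 2352, 2355, 4455, 4458, 4461]) :
    False := by
  have m := h.md
  have c : ∀ y ∈ [39], Im E Y (v y) (cl v (zl 4)) := by
    simpa [Z] using m.im_cm (a := 2187) (b := 6561) (c := 39) (j := 4) h.im h.im
  exact h.fin2 (ys := [81]) (B := lR) (j := 0) (by simpa using m.im_cen (D := lR) h.im c (h.inv 0 (by decide)))

theorem no_B2 (h : Lr F v E Y M 2 lB [27, 54, 81, 90, 99, 162, 171, 180]) : False := by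
  have m := h.md
  have s5 := m.stab_cen (D := zl 5) h.st h.le' h.st h.le' (h.inv 2 le_rfl)
  have sR := m.stab_cen (D := lR) h.st h.le' s5.1 s5.2 (h.inv 1 (by decide))
  have s4 := m.stab_cen (D := zl 4) h.st h.le' sR.1 sR.2 (h.inv 0 (by decide))
  have sC := m.stab_cen (D := lC) h.st h.le' s4.1 s4.2 (h.inv 1 (by decide))
  have s3 := m.stab_cen (D := zl 3) h.st h.le' sC.1 sC.2 (h.inv 0 (by decide))
  exact h.fin1 (Im.stab s3.1 s3.2 (m.gen_mem h.lt)) (Cg.refl _)

theorem no_B3 (h : Lr F v E Y M 3 lB [81, 162]) : False :=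
  have sC := h.md.stab_cen (D := lC) (B := zl 3) h.st h.le' (h.inv 3 le_rfl) (h.Zle (by decide)) (h.inv 0 (by decide))
  h.fin2 (ys := [243]) (B := lC) (j := 1) (by simpa using Im.stab sC.1 sC.2 h.md.mem')

theorem no_A4 (h : Lr F v E Y M 4 (zl 9) [2187, 4374]) : False :=
  have s8 := h.md.stab_cen (D := zl 8) (B := zl 2) h.st h.le' (h.inv 2 (by decide)) (h.Zle (by decide))
    (h.inv 0 (by decide))
  h.fin2 (ys := [729]) (B := zl 8) (j := 3) (by simpa using Im.stab s8.1 s8.2 h.md.mem')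

/-- the representatives for the normalizer of the pearl -/
def rN : List ℕ := [4050, 3888, 3969, 5670, 5751, 5589, 19926, 19935, 19944, 23823, 23832, 23814, 24795, 24804, 24786,
  39852, 39861, 39870, 43029, 43011, 43020, 44721, 44730, 44712]

/-- the representatives for the pearl -/
def rE : List ℕ := [4068, 3888, 3978, 5742, 5805, 5652, 19926, 20016, 20106, 23895, 23832, 23985, 25011, 24921, 24858,
  39879, 39969, 40059, 43137, 43047, 43200, 44892, 44802, 44712]

theorem Lk.four (h : Lk F v E Y M k) : ∃ w, (∀ j ≤ 10, Z w j = Z v j) ∧ (Lr F w E Y M 1 (zl 9) [9, 18] ∨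
    Lr F w E Y M 0 lB [3, 6] ∨ Lr F w E Y M 0 lE rE ∨ Lr F w E Y M 2 lN rN) := by
  obtain ⟨w, e, h⟩ := h.cases
  refine ⟨w, e, ?_⟩
  simp only [L0, L1, L2, L3, L4, List.mem_cons, List.not_mem_nil, or_false, exists_eq_or_imp, exists_eq_left] at h
  rcases h with (h | h | h | h | h | h | h | h | h | h | h | h) | (h | h | h | h | h | h | h | h | h | h | h | h) |
    (h | h | h | h) | (h | h) | h
  · exact (no_K8 h).elim
  · exact (h.r2 6 6561 3).elim
  · exact (h.r2 6 6642 3).elim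
  · exact (h.r2 6 6723 3).elim
  · exact (h.tv 6723 [0, 6723, 2349, 0, 0, 0, 27, 9, 3, 1] 0 1 3 27).elim
  · exact (no_g3 h 19683 1215 1215).elim
  · exact .inr (.inl h)
  · exact (h.r2 18 3888 2).elim
  · exact .inr (.inr (.inl h))
  · exact (h.tv 20169 [19683, 0, 2916, 0, 243, 81, 27, 9, 3, 1] 0 5 9 243).elim
  · exact (no_g3 h 20169 2187 2187).elim
  · exact (no_C4 h).elim
  · exact (no_17 h).elim
  · exact .inl h
  · exact (h.tv 6723 [0, 6723, 2349, 0, 405, 0, 27, 9, 3, 1] 0 12 30 405).elim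
  · exact h.r1.elim
  · exact h.r1.elim
  · exact h.r1.elim
  · exact h.r1.elim
  · exact h.r1.elim
  · exact h.r1.elim
  · exact h.r1.elim
  · exact h.r1.elim
  · exact (h.tv 20169 [19683, 0, 2916, 0, 243, 81, 27, 9, 3, 1] 0 5 9 243).elim
  · exact (h.r2 54 6561 4).elim
  · exact (no_B2 h).elim
  · exact .inr (.inr (.inr h))
  · exact (h.tv 20169 lB 2 9 3888 243).elim
  · exact (h.r2 81 6561 4).elim
  · exact (no_B3 h).elim
  · exact (no_A4 h).elim

end CF.Th3
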