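import Cfsg.Agent.Th3.K

/-! The normalizer of the elementary abelian essential subgroup is not essential. -/

set_option autoImplicit false
set_option linter.style.haveILetI false
set_option linter.unusedSimpArgs false

namespace CF.Th3

open Cfsg Cfsg.FusionSystem Subgroup CF.Fus CF.FusU CF.Comp

variable {Ω : Type*} [Group Ω] {S E U W D : Subgroup Ω} {F : FusionSystem S} {v : ℕ → Ω}
  {Y M : Subgroup (MulAut E)} {g α β : MulAut E} {s t x y z : Ω} {a b c d e j i k r : ℕ} {A B R ys : List ℕ}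

theorem Md.comm (h : Md S v) (e : CC A B 0 = true) (hx : x ∈ cl v A) (hy : y ∈ cl v B) : x * y = y * x :=
  cm_eq_one.1 (mem_bot.1 (h.Z_zero ▸ h.CC_spec e hx hy))

theorem fn_cj (g : MulAut E) (ht : t ∈ normalizer (E : Set Ω)) (hx : x ∈ E) :
    fn (g * cA E t * g⁻¹) x = x * fn g (cm (fn g⁻¹ x) t) := by
  have m := fn_mem g⁻¹ hx
  rw [fn_mul, fn_mul, fn_cA ht m, ← mul_cm, mulOn_fn g m (cm_mem m ht), fn_fn_inv]

theorem fn_commute (g : MulAut E) (hx : x ∈ E) (hy : y ∈ E) (h : x * y = y * x) :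
    fn g x * fn g y = fn g y * fn g x := by rw [← mulOn_fn g hx hy, h, mulOn_fn g hy hx]

namespace Md

variable (h : Md S v)
include h

theorem n3 (hx : x ∈ Z v 5) (hx' : x ∉ cl v lZ) (hy : y ∈ cl v lN) (e : y * x = x * y) : y ∈ Z v 5 := by
  obtain ⟨r, r1, r2, r3, r4⟩ := h.CV_spec (E := zl 5) (D := lZ)
    (P := fun r => Bool.rec (CE lN [r] 0 (zl 5)) true (Nat.beq r 0)) (by decide +kernel) hx
  rcases brec_or.1 r2 with r0 | r0
  · exact absurd (by simpa [beq_iff.1 r0, h.zero] using r4) hx'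
  refine h.CE_spec r0 hy fun c hc => ?_
  rw [List.mem_singleton.1 hc, h.Z_zero]
  exact Cg.cm_mem' (Cg.symm r4) (fun c hc => mem_bot.2 (cm_eq_one.2 (h.comm (A := lN) (B := lZ) (by decide +kernel) hy hc)))
    (mem_normalizer_iff.2 (by simp)) (mem_bot.2 (cm_eq_one.2 e))

theorem n4 (hs : s ∈ cl v lB) (hs' : s ∉ cl v lN) (hx : x ∈ cl v lN) (e : cm x s ∈ cl v lZ) : x ∈ Z v 5 := by
  obtain ⟨r, r1, r2, r3, r4⟩ := h.CV_spec (E := lB) (D := lN) (P := fun r => Bool.rec (CV lN (zl 5) fun x =>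
    Bool.rec (lany (fun e => Nat.ble (Nat.pow 3 0) (Th3.cc (Th3.cc x r) e)) lN) true (Nat.beq x 0)) true (Nat.beq r 0))
    (by decide +kernel) hs
  rcases brec_or.1 r2 with r0 | r0
  · exact absurd (by simpa [beq_iff.1 r0, h.zero] using r4) hs'
  obtain ⟨u, u1, u2, u3, u4⟩ := h.CV_spec r0 hx
  rcases brec_or.1 u2 with u0 | u0
  · simpa [beq_iff.1 u0, h.zero, Z] using u4
  obtain ⟨c, c1, c2⟩ := lany_iff.1 u0
  have l : Z v 2 ≤ cl v lZ := h.LE_spec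
  have n := h.Z_norm (k := 2) (by decide)
  have q1 : Cg (Z v 2) (cm (v u) (v r)) (cm (v u) s) :=
    Cg.cm_right r4 (fun c hc => h.CC_spec (A := lN) (B := lN) (by decide +kernel) u3 hc) (n (h.mem r1))
  have q2 : Cg (Z v 2) (cm (v u) s) (cm x s) :=
    Cg.cm_left u4 (fun c hc => h.CC_spec (A := zl 5) (B := lB) (by decide +kernel) hc hs) fun c hc =>
      h.Z_mono (j := 0) (by decide) (by decide) (h.CC_spec (A := zl 5) (B := zl 5) (by decide +kernel)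
        (h.CC_spec (A := lN) (B := lB) (by decide +kernel) u3 hs) (inv_mem hc))
  refine absurd ?_ (h.not_cm (cc_lt u1 r1) ((by decide : ∀ c ∈ lN, c < 59049) c c1) (by decide) c2)
  rw [h.cc u1 r1]
  exact h.CC_spec (A := lZ) (B := lN) (by decide +kernel) ((q1.trans q2).mem' l e) (mem_cl c1)

theorem n5 (hx : x ∈ cl v lN) (hx' : x ∉ Z v 5) : ∃ s ∈ cl v lB, s * x * s⁻¹ ∈ cl v lE := by
  obtain ⟨r, r1, r2, r3, r4⟩ := h.CV_spec (E := lN) (D := lZ) (P := fun r => Bool.rec (lany (fun s =>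
    band (band (lt s 59049) (mm lB s)) (mm lE (Th3.cjc r s))) [0, 243, 486, 729, 972, 1215, 1458, 1701, 1944]) true
    (lt r 243)) (by decide +kernel) hx
  rcases brec_or.1 r2 with r0 | r0
  · exact absurd (Cg.mem r4 h.LE_spec (h.Z_of_lt (by decide) (lt_iff.1 r0))) hx'
  obtain ⟨s, -, s2⟩ := lany_iff.1 r0
  simp only [band_iff, lt_iff] at s2
  have s3 := h.mm_spec (by decide +kernel) s2.1.1 s2.1.2
  have s4 := h.mm_spec (by decide +kernel) (cjc_lt r1 s2.1.1) s2.2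
  refine ⟨_, s3, ?_⟩
  rw [← mul_inv_cancel_left (v r) x, show v s * (v r * ((v r)⁻¹ * x)) * (v s)⁻¹ =
    v s * v r * (v s)⁻¹ * ((v r)⁻¹ * x * cm ((v r)⁻¹ * x) (v s)) by rw [mul_cm]; group, ← h.cjc r1 s2.1.1]
  exact mul_mem s4 (mul_mem (h.LE_spec (A := lZ) (by decide +kernel) r4) (h.LE_spec (A := zl 2) (by decide +kernel)
    (h.CC_spec (A := lZ) (B := lB) (by decide +kernel) r4 s3)))

end Md

theorem no_N (h : Lr F v E Y M 2 lN rN) : False := by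
  have m := h.md
  haveI := m.fin
  have x := h.mx
  have N : NS S E = cl v lB := h.eq ▸ m.NE_spec (r := 19926) (k := 2) (by decide +kernel)
  obtain ⟨sD, lD⟩ := m.stab_cen (D := lZ) h.st h.le' h.st h.le' (h.inv 0 (by decide))
  set D := cl v lZ with hD
  have l2 : Z v 2 ≤ D := m.LE_spec
  have l5 : D ≤ Z v 5 := m.LE_spec
  have lV : Z v 5 ≤ E := h.eq ▸ m.LE_spec
  have n2 : NS S E ≤ normalizer (Z v 2 : Set Ω) := NS_le.trans (m.Z_norm (by decide))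
  have cV : ∀ u ∈ Z v 5, ∀ n ∈ NS S E, cm u n ∈ Z v 2 := fun u hu n hn =>
    m.CC_spec (A := zl 5) (B := lB) (by decide +kernel) hu (N ▸ hn)
  have cE : ∀ u ∈ E, ∀ n ∈ NS S E, cm u n ∈ Z v 5 := fun u hu n hn =>
    m.CC_spec (A := lN) (B := lB) (by decide +kernel) (h.eq ▸ hu) (N ▸ hn)
  have cc : ∀ u ∈ E, ∀ n ∈ E, cm u n ∈ Z v 2 := fun u hu n hn =>
    m.CC_spec (A := lN) (B := lN) (by decide +kernel) (h.eq ▸ hu) (h.eq ▸ hn)
  have aV : ∀ u ∈ Z v 5, ∀ n ∈ Z v 5, u * n = n * u := fun u hu n hn =>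
    m.comm (A := zl 5) (B := zl 5) (by decide +kernel) hu hn
  have nD : NS S E ≤ normalizer (D : Set Ω) := fun n hn =>
    norm_of_cm (lD.trans x.le) fun u hu => l2 (cV u (l5 hu) n hn)
  have nE : E ≤ normalizer (D : Set Ω) := (le_NS x.le).trans nD
  have n3 : ∀ u ∈ Z v 5, u ∉ D → ∀ y ∈ E, y * u = u * y → y ∈ Z v 5 := fun u h1 h2 y h3 => m.n3 h1 h2 (h.eq ▸ h3)
  have n4 : ∀ s ∈ NS S E, s ∉ E → ∀ y ∈ E, cm y s ∈ D → y ∈ Z v 5 := fun s h1 h2 y h3 =>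
    m.n4 (N ▸ h1) (h.eq ▸ h2) (h.eq ▸ h3)
  have cm2 : ∀ a ∈ E, ∀ b ∈ E, Cg D (a * b) (b * a) := fun a ha b hb => Cg.comm (l2 (cc a ha b hb)) (nE hb)
  obtain ⟨g, g1, g2⟩ := x.exg
  obtain ⟨t, t1, t2⟩ := x.ext
  have c0 : v 90 ∈ D := m.mem'
  have fc := x.key (h.inv 2 le_rfl) (lD c0) (cV _ (l5 c0)) g1 g2 t1 t2 (cV _ (l5 (stab_maps (sD g1) c0)) t t1)
  have uu : ∀ y ∈ Z v 5, fn g⁻¹ y ∈ Z v 5 → y ∈ D := fun y h1 h2 => by_contra fun h3 => by
    have sV := x.inv lV (fun n hn u hu => m.Z_mono (by decide) (by decide) (cV u hu n hn)) (inv_mem g1)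
      (by simpa using g2) fun u hu => n3 _ h2 (fun e => h3 (fn_fn_inv g y ▸ stab_maps (sD g1) e)) _ (fn_mem _ (lV hu))
        (fn_commute _ (lV hu) (lV h1) (aV u hu y h1))
    exact t2 (lv_top x.toMn t1 ((m.lv (by decide) h.inv t1).stepc t1.2 sV fun u _ hu => cV u hu t t1)
      fun u hu => cE u hu t t1)
  set θ := g * cA E t * g⁻¹ with hθ
  have θ1 : θ ∈ Y := cj_mem x.toMn g1 t1.1
  have b0 : ∀ y ∈ E, fn g⁻¹ (y⁻¹ * fn θ y) = cm (fn g⁻¹ y) t := fun y hy => by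
    rw [hθ, fn_cj g t1.2 hy, inv_mul_cancel_left, fn_inv_fn]
  have bE : ∀ y ∈ E, y⁻¹ * fn θ y ∈ E := fun y hy => mul_mem (inv_mem hy) (fn_mem θ hy)
  have b1 : ∀ y ∈ E, fn g⁻¹ (y⁻¹ * fn θ y) ∈ Z v 5 := fun y hy => b0 y hy ▸ cE _ (fn_mem _ hy) t t1
  have b2 : ∀ y ∈ E, fn g⁻¹ y ∈ Z v 5 → Cg D y (fn θ y) := fun y hy e => by
    have := stab_maps (sD g1) (b0 y hy ▸ l2 (cV _ e t t1))
    rwa [fn_fn_inv] at this
  have u0 : v 9 ∈ Z v 5 := m.Z_of_lt (by decide) (by decide)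
  have u1 : v 9 ∉ D := m.NI_spec (r := 19926) (k := 0) (by decide +kernel) (by decide +kernel)
  have u2 : fn θ (v 9) ∉ Z v 5 := fun e => u1 (uu _ u0 (n4 t t1 t2 _ (fn_mem _ (lV u0)) (by
    rw [← b0 _ (lV u0)]; exact stab_maps (sD (inv_mem g1)) (uu _ (mul_mem (inv_mem u0) e) (b1 _ (lV u0))))))
  have u3 : fn g (v 9) ∉ Z v 5 := fun e =>
    u1 (fn_inv_fn g (v 9) ▸ stab_maps (sD (inv_mem g1)) (uu _ e (by rwa [fn_inv_fn])))
  obtain ⟨s1, p1, q1⟩ := m.n5 (h.eq ▸ fn_mem θ (lV u0)) u2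
  obtain ⟨s2, p2, q2⟩ := m.n5 (h.eq ▸ fn_mem g (lV u0)) u3
  have hs : s2⁻¹ * s1 ∈ NS S E := N ▸ mul_mem (inv_mem p2) p1
  have cs := m.comm (A := lE) (B := lE) (by decide +kernel) q1 q2
  set s := s2⁻¹ * s1 with es
  set X := cA E s * θ with hX
  have X1 : X ∈ Y := mul_mem (x.cA_mem hs.1) θ1
  have X0 : ∀ y ∈ E, fn X y = s * fn θ y * s⁻¹ := fun y hy => by rw [hX, fn_mul, fn_cA hs.2 (fn_mem θ hy)]
  have X2 : fn g⁻¹ (fn X (v 9)) ∈ Z v 5 := n3 _ u0 u1 _ (fn_mem _ (fn_mem _ (lV u0))) (by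
    have := fn_commute g⁻¹ (fn_mem X (lV u0)) (fn_mem g (lV u0)) (by
      rw [X0 _ (lV u0), es]
      calc _ = s2⁻¹ * (s1 * fn θ (v 9) * s1⁻¹ * (s2 * fn g (v 9) * s2⁻¹)) * s2 := by group
        _ = _ := by rw [cs]; group)
    rwa [fn_inv_fn] at this)
  have X3 : ∀ u ∈ Z v 5, fn g⁻¹ (fn X u) ∈ Z v 5 := fun u hu => n3 _ X2 (fun e => u1 (by
    have := stab_maps (sD (inv_mem X1)) (stab_maps (sD g1) e)
    rwa [fn_fn_inv, fn_inv_fn] at this)) _ (fn_mem _ (fn_mem _ (lV hu)))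
    (fn_commute _ (fn_mem _ (lV hu)) (fn_mem _ (lV u0)) (fn_commute _ (lV hu) (lV u0) (aV _ hu _ u0)))
  have aa : ∀ a ∈ E, ∀ b, Cg D a b → Cg D (cm a s) (cm b s) := fun a ha b e =>
    e.cm_left (fun c hc => l2 (cV c (l5 hc) s hs)) fun c hc =>
      l2 (cV _ (cE a ha s hs) _ (le_NS x.le (inv_mem (lD hc))))
  have X4 : ∀ u ∈ Z v 5, Cg D (u⁻¹ * fn θ u) (fn X u) ∧ u * cm (u⁻¹ * fn θ u) s ∈ D := fun u hu => by
    have hb := bE u (lV hu)
    have hc := cE _ hb s hs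
    have e1 : Cg D (u * ((u⁻¹ * fn θ u) * cm (u⁻¹ * fn θ u) s)) (fn X u) := by
      rw [X0 u (lV hu), mul_cm, show s * fn θ u * s⁻¹ = s * u * s⁻¹ * (s * (u⁻¹ * fn θ u) * s⁻¹) by group]
      exact (Cg.conj (l2 (cV u hu s hs))).mul_right (nE (conj_mem_of_norm hs.2 hb))
    have e2 : Cg D ((u⁻¹ * fn θ u) * (u * cm (u⁻¹ * fn θ u) s)) (fn X u) := by
      refine Cg.trans ?_ e1
      rw [← mul_assoc, ← mul_assoc u]
      exact (cm2 _ hb _ (lV hu)).mul_right (nE (lV hc))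
    have e3 : (u⁻¹ * fn θ u)⁻¹ * fn X u ∈ D := uu _ (((e2.mul_left (u⁻¹ * fn θ u)⁻¹).mem l5 (by
      rw [inv_mul_cancel_left]; exact mul_mem hu hc))) (by
        rw [(mulOn_fn _).map_inv_mul hb (fn_mem _ (lV hu))]; exact mul_mem (inv_mem (b1 u (lV hu))) (X3 u hu))
    exact ⟨e3, by simpa [Cg, mul_assoc] using Cg.trans e3 e2.symm⟩
  have sn : s ∉ E := fun e => u1 ((mul_mem_cancel_right (l2 (cc _ (bE _ (lV u0)) s e))).1 (X4 _ u0).2)
  have X5 : ∀ u ∈ Z v 5, Cg D (fn X u * u⁻¹) (fn X (fn X u)) := fun u hu => by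
    have hx := fn_mem X (lV hu)
    rw [X0 _ hx]
    refine Cg.trans ?_ (((b2 _ hx (X3 u hu)).mul_left s).mul_right (inv_mem (nD hs)))
    rw [← mul_cm]
    refine Cg.mul_left (Cg.trans ?_ (aa _ (bE u (lV hu)) _ (X4 u hu).1)) _
    simpa [Cg] using (X4 u hu).2
  have τ1 : X ^ 3 ∈ Y := pow_mem X1 3
  have τ0 : ∀ y, fn (X ^ 3) y = fn X (fn X (fn X y)) := fun y => by rw [pow_three, fn_mul X (X * X), fn_mul X X]
  have X6 : ∀ u ∈ Z v 5, Cg D u⁻¹ (fn (X ^ 3) u) := fun u hu => by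
    have hx := fn_mem X (lV hu)
    have e := (X5 u hu).fn (sD X1) (mul_mem hx (inv_mem (lV hu))) (fn_mem _ hx)
    rw [(mulOn_fn X).map_mul_inv hx (lV hu)] at e
    rw [τ0]
    refine Cg.trans ?_ (((X5 u hu).mul_right (inv_mem (nE hx))).trans e)
    simpa using (cm2 _ (inv_mem (lV hu)) _ hx).mul_right (inv_mem (nE hx))
  have X7 : ∀ y ∈ E, Cg D y⁻¹ (fn (X ^ 3) y) := fun y hy => by
    have a1 := cE y hy s hs
    have a2 := bE _ (lV a1)
    have a3 := fn_mem X (lV a1)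
    have e1 : y * fn X (cm y s) ∈ Z v 5 := n4 s hs sn _ (mul_mem hy a3) (by
      rw [cm_mul_left]
      have q : Cg D (cm y s) ((fn X (cm y s))⁻¹ * cm y s * fn X (cm y s)) := by
        simpa using Cg.conj (l2 (cc _ (lV a1) _ (inv_mem a3)))
      exact (q.mul (aa _ a2 _ (X4 _ a1).1) (nE (cm_mem a2 hs.2))).mem le_rfl (X4 _ a1).2)
    have e2 := (X6 _ a1).fn (sD X1) (inv_mem (lV a1)) (fn_mem _ (lV a1))
    rw [(mulOn_fn X).map_inv (lV a1), τ0, ← τ0 (fn X _)] at e2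
    have e3 := (X6 _ e1).mul (e2.inv (nE (inv_mem a3))) (nE (inv_mem (inv_mem a3)))
    rw [mulOn_fn _ hy a3, mul_inv_cancel_right, mul_inv_rev, inv_inv] at e3
    refine Cg.trans ?_ e3
    simpa [mul_assoc] using (cm2 _ a3 _ (inv_mem hy)).mul_left (fn X (cm y s))⁻¹
  generalize X ^ 3 = τ at τ1 X7
  have X8 : ∀ y ∈ E, Cg D y⁻¹ (fn τ⁻¹ y) := fun y hy => by
    have := X7 _ (fn_mem τ⁻¹ hy)
    rw [fn_fn_inv] at this
    simpa using this.symm.inv (nE hy)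
  have k1 : ∀ n ∈ NS S E, ∀ u ∈ E, Cg (Z v 2) (cm u n)⁻¹ (fn τ (cm u n)) := fun n hn u hu => by
    have γ1 : τ * cA E n * τ⁻¹ * (cA E n)⁻¹ ∈ Y := mul_mem (cj_mem x.toMn τ1 hn.1) (inv_mem (x.cA_mem hn.1))
    have lv : Lv Y (τ * cA E n * τ⁻¹ * (cA E n)⁻¹) ⊤ := by
      refine (((Lv.bot.step (h.inv 1 (by decide)) fun y _ hy => m.Z_zero ▸ h.triv 0 (by decide) _ γ1 y hy).step
        (h.inv 2 le_rfl) fun y _ hy => h.triv 1 (by decide) _ γ1 y hy).step sD fun y _ hy => ?_).step le_stab_top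
        fun y hy _ => ?_
      · obtain ⟨i, hi⟩ := ex_pow (m.mem (a := 90) (by decide)) (n2 (le_NS x.le (lD c0))) (cl_le.2 (fun c hc => by
          rcases (by decide : ∀ c ∈ lZ, c < 3 ^ 2 ∨ c = 90) c hc with e | rfl
          exacts [mem_sup_left (m.Z_of_lt (by decide) e), mem_sup_right (mem_zpowers _)]) hy)
        have := hi.fn (h.inv 2 le_rfl γ1) (pow_mem (lD c0) i) (lD hy)
        rw [(mulOn_fn _).map_pow (lD c0)] at this
        exact hi.symm.trans ((Cg.pow (fc _ γ1) (n2 (le_NS x.le (lD c0))) i).trans this)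
      · have y1 := fn_mem (cA E n)⁻¹ hy
        have e1 := (X8 _ y1).fn (sD (x.cA_mem hn.1)) (inv_mem y1) (fn_mem _ y1)
        rw [(mulOn_fn _).map_inv y1, fn_fn_inv] at e1
        have e2 := e1.fn (sD τ1) (inv_mem hy) (fn_mem _ (fn_mem _ y1))
        rw [fn_mul, fn_mul, fn_mul]
        simpa using (X7 _ (inv_mem hy)).trans e2
    haveI := fin_of_le x.le
    obtain ⟨e, e1, e2⟩ := mem_Inn.1 (x.opi (lv.op (x.pg.to_le x.le) γ1))
    have τu := fn_mem τ hu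
    have e3 : fn τ (n * u * n⁻¹) = e * (n * fn τ u * n⁻¹) * e⁻¹ := by
      rw [← fn_cA (le_normalizer e1) (conj_mem_of_norm hn.2 τu), e2, ← fn_cA hn.2 τu, fn_mul, fn_inv_fn, fn_mul,
        fn_inv_fn, fn_mul, fn_cA hn.2 hu]
    have e4 : Cg (Z v 2) (cm (fn τ u) n) (fn τ (cm u n)) := by
      rw [cm, cm, (mulOn_fn τ).map_inv_mul hu (conj_mem_of_norm hn.2 hu), e3]
      exact (Cg.conj (cc _ (conj_mem_of_norm hn.2 τu) e e1)).mul_left _
    refine Cg.trans ?_ (((X7 u hu).cm_left (fun c hc => cV c (l5 hc) n hn) fun c hc =>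
      cV _ (cE _ (inv_mem hu) n hn) _ (le_NS x.le (inv_mem (lD hc)))).trans e4)
    rw [cm_inv_left]
    exact Cg.conj (cc _ (inv_mem (cm_mem hu hn.2)) u hu)
  have a1 : v 19926 ∈ E := h.eq ▸ m.mem'
  have a2 : v 3888 ∈ E := h.eq ▸ m.mem'
  have a3 : v 1701 ∈ NS S E := N ▸ m.mem'
  have a4 : v 19683 ∈ NS S E := N ▸ m.mem'
  have e1 : Cg (Z v 2) (v 90) (cm (v 19926) (v 1701) * cm (v 3888) (v 19683)) := by
    rw [← m.cc (by decide) (by decide), ← m.cc (by decide) (by decide),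
      ← m.mul (cc_lt (by decide) (by decide)) (cc_lt (by decide) (by decide))]
    exact m.cg
  have f1 := cm_mem a1 a3.2
  have f2 := cm_mem a2 a4.2
  have e2 := e1.fn (h.inv 2 le_rfl τ1) (lD c0) (mul_mem f1 f2)
  rw [mulOn_fn τ f1 f2] at e2
  have e3 := ((k1 _ a3 _ a1).mul (k1 _ a4 _ a2) (n2 (le_NS x.le (inv_mem f2)))).trans
    (e2.symm.trans (Cg.symm (fc τ τ1)))
  rw [← m.cc (by decide) (by decide), ← m.cc (by decide) (by decide), Cg, mul_inv_rev, inv_inv, inv_inv,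
    ← m.mul (cc_lt (by decide) (by decide)) (cc_lt (by decide) (by decide)), ← m.mul (by decide +kernel) (by decide),
    m.mem_Z (by decide) (by decide +kernel)] at e3
  exact absurd e3 (by decide +kernel)

end CF.Th3
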