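import Cfsg.Agent.Th3.L

/-! Characteristic subgroups, normal subgroups and automorphisms of `S`. -/

set_option autoImplicit false
set_option linter.style.haveILetI false
set_option linter.unusedSimpArgs false

namespace CF.Th3

open Cfsg Cfsg.FusionSystem Subgroup CF.Fus CF.FusU CF.Comp

variable {Ω : Type*} [Group Ω] {S E U W D H T : Subgroup Ω} {F : FusionSystem S} {v : ℕ → Ω}
  {Y M : Subgroup (MulAut E)} {g α β : MulAut E} {s t w x y z : Ω} {a b c d e j i k r : ℕ} {A B R ys : List ℕ}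

theorem gen3 [Finite S] (hw : w ∈ S) (hn : w ∈ normalizer (D : Set Ω)) (h3 : w ^ 3 ∈ D) (hx : x ∈ D ⊔ zpowers w)
    (hx' : x ∉ D) (hD : D ≤ H) (hH : x ∈ H) : w ∈ H := by
  obtain ⟨i, hi⟩ := ex_pow hw hn hx
  refine mem_of_pow3 (hi.mem' hD hH) (hD h3) ?_
  rintro ⟨i, rfl⟩
  exact hx' (hi.mem le_rfl (by rw [pow_mul]; exact pow_mem h3 i))

/-- the elements fixed modulo `D` -/
def fx (β : MulAut E) (D : Subgroup Ω) : Subgroup Ω where
  carrier := {x | x ∈ E ∧ x ∈ normalizer (D : Set Ω) ∧ Cg D x (fn β x)}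
  one_mem' := ⟨one_mem _, one_mem _, by rw [(mulOn_fn β).map_one]; exact Cg.refl 1⟩
  mul_mem' := fun {x y} hx hy => ⟨mul_mem hx.1 hy.1, mul_mem hx.2.1 hy.2.1, by
    rw [mulOn_fn β hx.1 hy.1]; exact hx.2.2.mul hy.2.2 hy.2.1⟩
  inv_mem' := fun {x} hx => ⟨inv_mem hx.1, inv_mem hx.2.1, by
    rw [(mulOn_fn β).map_inv hx.1]; exact hx.2.2.inv hx.2.1⟩

/-- the elements whose images lie in `U` -/
def imG (E : Subgroup Ω) (Y : Subgroup (MulAut E)) (U : Subgroup Ω) : Subgroup Ω where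
  carrier := {x | Im E Y x U}
  one_mem' := ⟨one_mem _, fun α _ => by rw [(mulOn_fn α).map_one]; exact one_mem _⟩
  mul_mem' := fun {x y} hx hy => ⟨mul_mem hx.1 hy.1, fun α hα => by
    rw [mulOn_fn α hx.1 hy.1]; exact mul_mem (hx.2 α hα) (hy.2 α hα)⟩
  inv_mem' := fun {x} hx => ⟨inv_mem hx.1, fun α hα => by
    rw [(mulOn_fn α).map_inv hx.1]; exact inv_mem (hx.2 α hα)⟩

/-- pairs whose commutators generate the terms of the lower central series -/
def lP (j : ℕ) : List (ℕ × ℕ) := List.replicate (10 - j) (0, 0) ++ List.drop (7 - j)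
  [(19683, 6561), (729, 13122), (729, 19683), (81, 6561), (27, 13122), (9, 39366), (3, 13122)]

/-- the `j`-th term is generated by commutators with first entry in `A` -/
noncomputable def GC (A : List ℕ) (j : ℕ) : Bool := band (band (okl A) (LE (zl j) (lmap (fun q => cc q.1 q.2) (lP j))))
  (lall (fun q => band (band (lt q.1 59049) (mm A q.1)) (lt q.2 59049)) (lP j))

namespace Md

variable (h : Md S v)
include h

theorem pow3 (hk : k < 10) : v (3 ^ k) ^ 3 ∈ Z v k := by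
  rw [← h.cu (pow_lt hk)]
  exact h.Z_of_lt hk.le ((by decide +kernel : ∀ k < 10, Th3.cu (3 ^ k) < 3 ^ k) k hk)

omit h in
theorem Z_succ (hk : k < 10) : Z v (k + 1) ≤ Z v k ⊔ zpowers (v (3 ^ k)) := cl_le.2 fun c hc => by
  rcases (by decide : ∀ k < 10, ∀ c ∈ zl (k + 1), c ∈ zl k ∨ c = 3 ^ k) k hk c hc with e | rfl
  exacts [mem_sup_left (mem_cl e), mem_sup_right (mem_zpowers _)]

theorem gen3 (hk : k < 10) (hD : Z v k ≤ H) (hx : x ∈ Z v (k + 1)) (hx' : x ∉ Z v k) (hH : x ∈ H) :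
    Z v (k + 1) ≤ H :=
  haveI := h.fin
  (Z_succ hk).trans (sup_le hD (zpowers_le.2 (Th3.gen3 (h.mem (pow_lt hk)) (h.Z_norm hk.le (h.mem (pow_lt hk)))
    (h.pow3 hk) (Z_succ hk hx) hx' hD hH)))

theorem triv_of (hk : k < 10) (l : Z v (k + 1) ≤ E) (hβ : β ∈ stab E (Z v k)) (hx : x ∈ Z v (k + 1)) (hx' : x ∉ Z v k)
    (e : Cg (Z v k) x (fn β x)) (hy : y ∈ Z v (k + 1)) : Cg (Z v k) y (fn β y) :=
  have n := (h.Z_le hk).trans (h.Z_norm hk.le)
  have m := h.Z_mono k.le_succ hk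
  (h.gen3 (H := fx β _) hk (fun _ hu => ⟨l (m hu), n (m hu), Cg.of_mem hu (stab_maps hβ hu)⟩) hx hx'
    ⟨l hx, n hx, e⟩ hy).2.2

theorem GC_spec (e : GC A j = true) (k : ∀ x ∈ cl v A, ∀ s ∈ S, cm x s ∈ H) : Z v j ≤ H := by
  simp only [GC, band_iff, lall_iff, lt_iff, lmap_eq] at e
  refine (h.LE_spec e.1.2).trans (cl_le.2 fun c hc => ?_)
  obtain ⟨q, h1, rfl⟩ := List.mem_map.1 hc
  obtain ⟨⟨h2, h3⟩, h4⟩ := e.2 q h1
  exact h.cc h2 h4 ▸ k _ (h.mm_spec e.1.1 h2 h3) _ (h.mem h4)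

theorem stab_cm {Y : Subgroup (MulAut S)} (hA : Y ≤ stab S (cl v A))
    (e : band (GC A j) (CC A g10 j) = true := by decide +kernel) (hj : j ≤ 10 := by decide) : Y ≤ stab S (Z v j) := by
  obtain ⟨e1, e2⟩ := band_iff.1 e
  have l := h.cl_le_S (band_iff.1 (band_iff.1 e2).1).1
  exact le_stab (h.Z_le hj) fun α hα x hx => (h.GC_spec (H := imG S Y (Z v j)) e1 (fun x hx s hs =>
    ⟨cm_mem' (l hx) hs, fun α hα => by
      rw [fn_cm α (l hx) hs]; exact h.CC_spec e2 (stab_maps (hA hα) hx) (h.S_eq ▸ fn_mem α hs) hj⟩) hx).2 α hα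

theorem char (Y : Subgroup (MulAut S)) : (∀ j ≤ 6, Y ≤ stab S (Z v j)) ∧ Y ≤ stab S (Z v 9) ∧ Y ≤ stab S (cl v lB) := by
  have s10 : Y ≤ stab S (cl v g10) := h.S_eq ▸ stab_self.ge.trans' le_top
  have l10 : cl v g10 ≤ S := h.S_eq.ge
  have s7 := h.stab_cm (j := 7) s10
  have s6 := h.stab_cm (j := 6) (A := zl 7) s7
  have s4 := h.stab_cm (j := 4) (A := zl 6) s6
  have s3 := h.stab_cm (j := 3) (A := zl 4) s4
  have s2 := h.stab_cm (j := 2) (A := zl 3) s3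
  have s1 := h.stab_cm (j := 1) (A := zl 2) s2
  have s0 : Y ≤ stab S (Z v 0) := h.Z_zero ▸ le_stab_bot
  have sB := h.stab_cen (D := lB) (B := zl 2) s10 l10 s2 (h.Z_le (by decide)) s0
  have s5 := h.stab_cen (D := zl 5) (A := zl 6) s6 (h.Z_le (by decide)) sB.1 sB.2 s2
  have s9 := h.stab_cen (D := zl 9) (B := zl 3) s10 l10 s3 (h.Z_le (by decide)) s1
  refine ⟨fun j hj => ?_, s9.1, sB.1⟩
  interval_cases j
  exacts [s0, s1, s2, s3, s4, s5.1, s6]

theorem cen (hx : x ∈ cl v A) (k : ∀ y ∈ cl v B, x * y = y * x) {D : List ℕ}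
    (e : CE A B 0 D = true := by decide +kernel) : x ∈ cl v D :=
  h.CE_spec e hx fun y hy => by rw [cm_eq_one.2 (k _ (mem_cl hy))]; exact one_mem _

theorem lB_eq : cl v lB = CS S (Z v 2) :=
  le_antisymm (fun _ hx => mem_CS.2 ⟨h.cl_le_S (by decide +kernel) hx, fun _ hy =>
    h.comm (A := zl 2) (B := lB) (by decide +kernel) hy hx⟩) fun _ hx =>
      h.cen (h.S_eq ▸ hx.1) fun y hy => ((mem_CS.1 hx).2 y hy).symm

theorem cen_V (hx : x ∈ S) (k : ∀ y ∈ Z v 5, x * y = y * x) : x ∈ Z v 5 := h.cen (B := zl 5) (h.S_eq ▸ hx) k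

theorem z_mem (hT : T ≤ S) (hn : S ≤ normalizer (T : Set Ω)) (h0 : T ≠ ⊥) : Z v 1 ≤ T := by
  have key : ∀ k ≤ 10, ∀ t ∈ T, t ∈ Z v k → t ≠ 1 → Z v 1 ≤ T := fun k hk => by
    induction k with
    | zero => exact fun t _ h1 h2 => absurd (mem_bot.1 (h.Z_zero ▸ h1)) h2
    | succ k ih =>
      intro t h1 h2 h3
      by_cases c : ∀ s ∈ S, t * s = s * t
      · exact h.gen3 (k := 0) (by decide) (h.Z_zero ▸ bot_le) (h.cen (A := zl 5) (B := g3) (h.cen_V (hT h1)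
          fun y hy => c y (h.Z_le (by decide) hy)) fun y hy => c y (h.S_eq3 ▸ hy)) (by rwa [h.Z_zero, mem_bot]) h1
      · push Not at c
        obtain ⟨s, s1, s2⟩ := c
        exact ih (by omega) _ (cm_mem h1 (hn s1)) (h.cm_Z hk h2 s1) (mt cm_eq_one.1 s2)
  obtain ⟨⟨t, h1⟩, h2⟩ := ne_bot_iff_exists_ne_one.1 h0
  exact key 10 le_rfl t h1 (h.Z_ten.symm ▸ hT h1) (by simpa using h2)

theorem desc (hT : T ≤ S) (hn : S ≤ normalizer (T : Set Ω)) (l : cl v lB ≤ T ⊔ Z v 7) : cl v lB ≤ T := by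
  have key : ∀ k ≤ 7, cl v lB ≤ T ⊔ Z v (7 - k) := fun k hk => by
    induction k with
    | zero => exact l
    | succ k ih =>
      have n : S ≤ normalizer ((T ⊔ Z v (7 - (k + 1)) : Subgroup Ω) : Set Ω) :=
        (le_inf hn (h.Z_norm (k := 7 - (k + 1)) (by omega))).trans (normalizer_inf_normalizer_le_normalizer_sup _ _)
      refine l.trans (sup_le le_sup_left (h.GC_spec (A := lB) (by decide +kernel) fun x hx s hs => ?_))
      refine (sup_le (b := Z v (7 - k)) (c := c1 _ s) (fun t ht => ⟨n (hT ht), mem_sup_left (cm_mem ht (hn hs))⟩)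
        (fun y hy => ⟨n (h.Z_le (by omega) hy), mem_sup_right (h.cm_Z (by omega) ?_ hs)⟩) (ih (by omega) hx)).2
      rwa [show 7 - (k + 1) + 1 = 7 - k by omega]
  simpa [h.Z_zero] using key 7 le_rfl

theorem top_of (hT : T ≤ S) (l : cl v lB ≤ T) (ht : t ∈ T) (tn : t ∉ cl v lB) : T = S := by
  haveI := h.fin
  have e : S ≤ cl v lB ⊔ zpowers (v 6561) := h.S_eq.le.trans (cl_le.2 fun c hc => by
    rcases (by decide : ∀ c ∈ g10, c ∈ lB ∨ c = 6561) c hc with e | rfl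
    exacts [mem_sup_left (mem_cl e), mem_sup_right (mem_zpowers _)])
  refine le_antisymm hT (e.trans (sup_le l (zpowers_le.2 (Th3.gen3 (h.mem (by decide))
    (h.NM_spec (by decide +kernel)).2 ?_ (e (hT ht)) tn l ht))))
  exact h.cu (a := 6561) (by decide) ▸ h.mem'

end Md

end CF.Th3
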