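import Cfsg.Agent.Th3.M

/-! The action on the second centre determines the automorphisms of `S` up to inner ones. -/

set_option autoImplicit false
set_option linter.style.haveILetI false
set_option linter.unusedSimpArgs false

namespace CF.Th3

open Cfsg Cfsg.FusionSystem Subgroup CF.Fus CF.FusU CF.Comp

variable {Ω : Type*} [Group Ω] {S E U W D H T : Subgroup Ω} {F : FusionSystem S} {v : ℕ → Ω} {f : Ω → Ω}
  {s t w x y z : Ω} {a b c d e j i k r : ℕ} {A B R ys : List ℕ}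

/-- the action on the two factors of the second centre -/
def Ty (v : ℕ → Ω) (f : Ω → Ω) (a b : ℕ) : Prop :=
  (∀ x ∈ Z v 1, f x = x ^ a) ∧ ∀ x ∈ Z v 2, Cg (Z v 1) (x ^ b) (f x)

/-- the type is realized in the fusion system -/
def HT (F : FusionSystem S) (v : ℕ → Ω) (a b : ℕ) : Prop := ∃ f, Mor F (Z v 2) f ∧ Ty v f a b

theorem HT.congr {w : ℕ → Ω} (h : HT F w a b) (e : ∀ j ≤ 10, Z w j = Z v j) : HT F v a b := by
  simpa only [HT, Ty, e 1 (by decide), e 2 (by decide)] using h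

theorem cen_of_fix {β : MulAut S} (hU : U ≤ S) (n : S ≤ normalizer (U : Set Ω)) (k : ∀ x ∈ S, x ∈ U → fn β x = x)
    (hx : x ∈ S) : x⁻¹ * fn β x ∈ CS S U :=
  mem_CS'.2 ⟨mul_mem (inv_mem hx) (fn_mem β hx), fun y hy => by
    have m := conj_mem_of_norm (n hx) hy
    have e := (mulOn_fn β).map_conj hx (hU hy)
    rw [k _ (hU m) m, k _ (hU hy) hy] at e
    rw [mul_inv_rev, inv_inv, show x⁻¹ * fn β x * y * ((fn β x)⁻¹ * x) = x⁻¹ * (fn β x * y * (fn β x)⁻¹) * x by group, ← e]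
    group⟩

namespace Md

variable (h : Md S v)
include h

theorem l12 : Z v 1 ≤ Z v 2 := h.Z_mono (by decide) (by decide)

theorem n1 (hx : x ∈ Z v 2) : x ∈ normalizer (Z v 1 : Set Ω) := h.Z_norm (by decide) (h.Z_le (by decide) hx)

theorem eq_of (e : Cg (Z v 0) x y) : x = y := inv_mul_eq_one.1 (mem_bot.1 (h.Z_zero ▸ e))

theorem ty_mk (hf : MulOn f (Z v 2)) (h1 : f (v 1) = v 1 ^ a) (h2 : Cg (Z v 1) (w ^ b) (f w)) (hw : w ∈ Z v 2)
    (hw' : w ∉ Z v 1) : Ty v f a b := by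
  have z1 : v 1 ∈ Z v 1 := h.gen_mem (k := 0) (by decide)
  have k1 : ∀ x ∈ Z v 1, f x = x ^ a := fun x hx => by
    obtain ⟨i, hi⟩ := h.ex_pow (k := 0) (by decide) hx
    rw [← h.eq_of hi, pow_zero, hf.map_pow (h.l12 z1), h1, ← pow_mul, ← pow_mul, mul_comm]
  refine ⟨k1, fun x hx => ?_⟩
  haveI := h.fin
  obtain ⟨i, hi⟩ := Th3.ex_pow (h.Z_le (by decide) hw) (h.n1 hw)
    (h.gen3 (k := 1) (by decide) le_sup_left hw hw' (mem_sup_right (mem_zpowers w)) hx)
  have e : f x = f w ^ i * f ((w ^ i)⁻¹ * x) := by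
    rw [← hf.map_pow hw, ← hf (pow_mem hw i) (h.l12 hi), mul_inv_cancel_left]
  rw [e, k1 _ hi]
  refine (hi.symm.pow (h.n1 hx) b).trans (Cg.trans ?_ (Cg.mul_mem _ (pow_mem hi a)))
  rw [← pow_mul, mul_comm, pow_mul]
  exact h2.pow (h.n1 (pow_mem hw b)) i

theorem ext (hF : Sat F 3) (k : HT F v a b) : ∃ β ∈ F.autGroup S, Ty v (fn β) a b := by
  haveI := h.fin
  obtain ⟨f, hf, k1, k2⟩ := k
  have l := h.Z_le (k := 2) (by decide)
  have n := h.Z_norm (k := 2) (by decide)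
  haveI := fin_of_le l
  haveI := fin_of_le (h.Z_le (k := 1) (by decide))
  obtain ⟨τ, t1, t2⟩ := (hf.iso_self fun x hx => (k2 x hx).mem h.l12 (pow_mem hx b)).exists_aut
  have s1 : τ ∈ stab (Z v 2) (Z v 1) := mem_stab_of_maps h.l12 fun x hx => by
    rw [t2 x (h.l12 hx), k1 x hx]; exact pow_mem hx a
  obtain ⟨b, ⟨-, b1, b2⟩, k⟩ := hF.ext_of_norm (fn_of_norm F l n) (H := F.autGroup (Z v 2) ⊓
    (trivOn _ (Z v 2) (Z v 1) ⊓ fix _ (Z v 1))) (le_inf (autInducedBy_le F l) fun α hα => by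
      obtain ⟨s, s1, e⟩ := mem_autInducedBy'.1 hα
      have q : α ∈ fix _ (Z v 1) := fun x hx => by
        rw [e x (h.l12 hx), ← mul_cm, mem_bot.1 (h.Z_zero.le (h.cm_Z (k := 0) (by decide) hx s1)), mul_one]
      exact ⟨⟨fix_le_stab q, fun x hx _ => e x hx ▸ h.cm_Z (k := 1) (by decide) hx s1⟩, q⟩) inf_le_left t1
    (inf_normalizer_le_normalizer_inf ⟨le_normalizer t1, inf_normalizer_le_normalizer_inf
      ⟨le_norm_trivOn ⟨stab_self.ge (mem_top _), s1⟩, stab_le_norm_fix s1⟩⟩)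
  rw [NS_eq_of_norm n] at k
  obtain ⟨β, β1, β2⟩ := k
  refine ⟨β, β1, fun x hx => ?_, fun x hx => ?_⟩
  · rw [← β2 x (h.l12 hx), b2 _ (stab_maps s1 hx), t2 x (h.l12 hx), k1 x hx]
  · rw [← β2 x hx]
    exact (t2 x hx ▸ k2 x hx).trans (b1.2 _ (fn_mem τ hx) (fn_mem τ hx))

theorem fix_Z1 (hx : x ∈ Z v 2) (e : v 6561 * x * (v 6561)⁻¹ = x) : x ∈ Z v 1 :=
  h.CE_spec (A := zl 2) (ys := [6561]) (j := 0) (by decide +kernel) hx fun y hy => by
    rw [List.mem_singleton.1 hy, cm, e, inv_mul_cancel]; exact one_mem _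

theorem ty22 (hf : Mor F (Z v 2) f) (hm : ∀ x ∈ Z v 2, f x ∈ Z v 2) (hz : f (v 1) ∉ Z v 1) : HT F v 2 2 := by
  haveI := h.fin
  have l := h.Z_le (k := 2) (by decide)
  have n := h.Z_norm (k := 2) (by decide) (h.mem (a := 6561) (by decide))
  obtain ⟨α, t1, t2⟩ := (hf.iso_self hm).exists_aut
  have z1 : v 1 ∈ Z v 1 := h.gen_mem (k := 0) (by decide)
  have z2 := h.l12 z1
  rw [← t2 _ z2] at hz
  have a0 := cA_mem_autGroup F l (h.mem (a := 6561) (by decide))
  have k : ∀ y : Z v 2, cA _ (v 6561) y = y → (y : Ω) ∈ Z v 1 := fun y e =>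
    h.fix_Z1 y.2 (by rw [← coe_cA n, e])
  obtain ⟨c, c1, c2, c3⟩ := exists_diag' (p := 3) (z := (⟨v 1, z2⟩ : Z v 2)) (α := α) (l := 2) (m := 2)
    (Subtype.ext (by simpa using (h.cu (a := 1) (by decide)).symm.trans (by
      rw [show Th3.cu 1 = 0 by decide +kernel, h.zero])))
    (Subtype.ext (h.comm (A := zl 2) (B := zl 2) (by decide +kernel) z2 (Subtype.mem _))) a0
    (mul_mem (mul_mem t1 a0) (inv_mem t1))
    (Subtype.ext (by rw [coe_cA n, ← h.cjc (by decide) (by decide), show Th3.cjc 1 6561 = 1 by decide +kernel]))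
    (fun y => by
      obtain ⟨i, hi⟩ := h.ex_pow (k := 0) (by decide) (h.cm_Z (k := 1) (by decide) y.2 (h.mem (a := 6561) (by decide)))
      exact ⟨i, Subtype.ext (by simpa [coe_cA n, cm] using h.eq_of hi)⟩)
    (fun e => hz (fn_of_mem α z2 ▸ k _ e)) (fun e => hz (by
      have q := k _ e
      rw [← fn_of_mem α⁻¹ z2] at q
      obtain ⟨i, hi⟩ := Th3.ex_pow (l (h.l12 q)) (D := ⊥) (mem_normalizer_iff.2 (by simp)) (h.gen3 (k := 0) (by decide)
        (h.Z_zero.le.trans bot_le) q (by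
          rw [h.Z_zero, mem_bot, ← (mulOn_fn α⁻¹).map_one, (fn_inj _).eq_iff, h.one_iff (by decide)]; decide)
        (mem_sup_right (mem_zpowers _)) z1)
      rw [← inv_mul_eq_one.1 (mem_bot.1 hi), (mulOn_fn α).map_pow (h.l12 q), fn_fn_inv]
      exact pow_mem z1 i)) (by decide)
  refine ⟨_, mor_fn l c1, h.ty_mk (mulOn_fn c) ?_ (Cg.of_eq ?_) (fn_mem α z2) hz⟩
  · rw [fn_of_mem c z2, c2]; simp
  · rw [fn_of_mem α z2, fn_coe, c3]; simp

theorem ker1 {β : MulAut S} (hc : (orderOf β).Coprime 3) (k : Ty v (fn β) 1 1) : β = 1 := by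
  obtain ⟨st, -, -⟩ := h.char ⊤
  replace st : ∀ j ≤ 6, β ∈ stab S (Z v j) := fun j hj => st j hj (mem_top β)
  have m : ∀ c, (hc : c < 59049 := by decide) → v c ∈ S := fun c hc => h.mem hc
  have zl' : ∀ j c, (hc : c < 3 ^ j := by decide) → (hj : j ≤ 10 := by decide) → v c ∈ Z v j :=
    fun j c hc hj => h.Z_of_lt hj hc
  have nz : ∀ j c, (hc : ¬ c < 3 ^ j := by decide) → (hj : j ≤ 10 := by decide) → (hc : c < 59049 := by decide) →
      v c ∉ Z v j := fun j c hc hj hc' => (h.mem_Z hj hc').not.2 hc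
  have f0 : ∀ x ∈ S, x ∈ Z v 0 → fn β x = x := fun x _ hx => by
    rw [← h.eq_of (x := 1) (y := x) (by simpa [Cg] using hx), (mulOn_fn β).map_one]
  have c2 : ∀ j < 2, ∀ x ∈ S, x ∈ Z v (j + 1) → x⁻¹ * fn β x ∈ Z v j := fun j hj x _ hx => by
    interval_cases j
    · rw [k.1 x hx]; simp
    · simpa only [pow_one, Cg] using k.2 x hx
  have f2 := fix_of_chain h.pg hc (Z v) f0 2 c2
  have f1 := f2 _ (m 1) (zl' 2 1)
  have f3 := f2 _ (m 3) (zl' 2 3)
  obtain ⟨p, p1, p2⟩ := h.ex_Z (k := 6) (by decide) (stab_maps (st 6 le_rfl) (zl' 6 243))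
  have p3 : Cg (Z v 5) (v 243) (v p) := by
    have e : Th3.cu p = 1 := h.inj (cu_lt (by omega)) (by decide) (by
      rw [h.cu (by omega), p2, ← (mulOn_fn β).map_pow (m 243), ← h.cu (by decide), show Th3.cu 243 = 1 by decide +kernel, f1])
    have := brec_imp.1 (allN_spec (f := fun p => Bool.rec true (lt (mu (iv 243) p) 243) (Nat.beq (Th3.cu p) 1))
      (n := 729) (by decide +kernel) (by decide) p p1) (beq_iff.2 e)
    rw [Cg, ← h.inv (by decide), ← h.mul (by decide +kernel) (by omega)]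
    exact h.Z_of_lt (by decide) (lt_iff.1 this)
  obtain ⟨q, q1, q2⟩ := h.ex_Z (k := 4) (by decide) (stab_maps (st 4 (by decide)) (zl' 4 27))
  have q3 : Cg (Z v 3) (v 27) (v q) := by
    have e1 : Cg (Z v 0) (cm (v q) (v 243)) (cm (v q) (v p)) := p3.cm_right (fun c hc => h.CC_spec (A := zl 4) (B := zl 5)
      (by decide +kernel) (zl' 4 q q1) hc) (h.Z_norm (by decide) (m 243))
    have e : Th3.cc q 243 = 1 := h.inj (cc_lt (by omega) (by decide)) (by decide) (by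
      rw [h.cc (by omega) (by decide), h.eq_of e1, q2, p2, ← fn_cm β (m 27) (m 243), ← h.cc (by decide) (by decide),
        show Th3.cc 27 243 = 1 by decide +kernel, f1])
    have := brec_imp.1 (allN_spec (f := fun q => Bool.rec true (lt (mu (iv 27) q) 27) (Nat.beq (Th3.cc q 243) 1))
      (n := 81) (by decide +kernel) (by decide) q q1) (beq_iff.2 e)
    rw [Cg, ← h.inv (by decide), ← h.mul (by decide +kernel) (by omega)]
    exact h.Z_of_lt (by decide) (lt_iff.1 this)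
  have r3 : Cg (cl v lB) (v 6561) (fn β (v 6561)) :=
    h.lB_eq ▸ cen_of_fix (h.Z_le (by decide)) (h.Z_norm (by decide)) f2 (m 6561)
  have r4 : ∀ j ≤ 10, 2 ≤ j → ∀ x ∈ Z v 5, Cg (Z v j) (cm x (v 6561)) (cm x (fn β (v 6561))) := fun j h1 h2 x hx =>
    r3.cm_right (fun c hc => h.Z_mono h2 h1 (h.CC_spec (A := zl 5) (B := lB) (by decide +kernel) hx hc))
      (h.Z_norm h1 (m 6561))
  have c3 : ∀ x ∈ Z v 4, Cg (Z v 3) x (fn β x) := fun x hx =>
    h.triv_of (k := 3) (by decide) (h.Z_le (by decide)) (st 3 (by decide)) (zl' 4 27) (nz 3 27) (q2 ▸ q3) hx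
  have c4 : Cg (Z v 2) (v 25) (fn β (v 25)) := by
    rw [show 25 = Th3.cc 27 6561 by decide +kernel, h.cc (by decide) (by decide), fn_cm β (m 27) (m 6561), ← q2]
    exact (q3.cm_left (fun c hc => h.cm_Z (k := 2) (by decide) hc (m 6561)) fun c hc => h.cm_Z' (k := 2) (by decide)
      (cm_mem' (m 27) (m 6561)) (inv_mem hc)).trans (r4 2 (by decide) le_rfl _ (zl' 5 q (by omega)))
  obtain ⟨r, r1, r2⟩ := h.ex_Z (k := 5) (by decide) (stab_maps (st 5 (by decide)) (zl' 5 81))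
  have c5 : Cg (Z v 4) (v 81) (v r) := by
    have e := (c3 _ (zl' 4 40)).trans (Cg.symm (by
      rw [show 40 = Th3.cc 81 6561 by decide +kernel, h.cc (by decide) (by decide), fn_cm β (m 81) (m 6561), ← r2]
      exact r4 3 (by decide) (by decide) _ (zl' 5 r r1)))
    have l : Th3.cc r 6561 < 59049 := cc_lt (by omega) (by decide)
    rw [← h.cc (by omega) (by decide), Cg, ← h.inv (by decide), ← h.mul (by decide +kernel) l,
      h.mem_Z (by decide) (mu_lt (by decide +kernel) l)] at e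
    have := brec_imp.1 (allN_spec (f := fun r => Bool.rec true (lt (mu (iv 81) r) 81) (lt (mu (iv 40) (Th3.cc r 6561)) 27))
      (n := 243) (by decide +kernel) (by decide) r r1) (lt_iff.2 e)
    rw [Cg, ← h.inv (by decide), ← h.mul (by decide +kernel) (by omega)]
    exact h.Z_of_lt (by decide) (lt_iff.1 this)
  have f5 := fix_of_chain h.pg hc (Z v) f0 5 fun j hj x h1 hx => by
    interval_cases j
    exacts [c2 0 (by decide) x h1 hx, c2 1 (by decide) x h1 hx,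
      h.triv_of (k := 2) (by decide) (h.Z_le (by decide)) (st 2 (by decide)) (zl' 3 25) (nz 2 25) c4 hx, c3 x hx,
      h.triv_of (k := 4) (by decide) (h.Z_le (by decide)) (st 4 (by decide)) (zl' 5 81) (nz 4 81) (r2 ▸ c5) hx]
  refine aut_ext fun x hx => (fix_of_chain h.pg hc (fun j => if j = 0 then Z v 5 else ⊤) (by simpa using f5) 1
    (fun j hj x hx _ => ?_) x hx (by simp)).trans (fn_one x).symm
  have := cen_of_fix (h.Z_le (k := 5) (by decide)) (h.Z_norm (by decide)) f5 hx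
  rw [Nat.lt_one_iff.1 hj, if_pos rfl]
  exact h.cen_V this.1 fun y hy => ((mem_CS.1 this).2 y hy).symm

theorem ker (hF : Sat F 3) {β : MulAut S} (hβ : β ∈ F.autGroup S) (k : Ty v (fn β) 1 1) : β ∈ Inn S := by
  haveI := h.fin
  obtain ⟨st, -, -⟩ := h.char (F.autGroup S)
  refine hF.syl_top.le_of_norm (C := F.autGroup S ⊓ (trivOn S (Z v 2) (Z v 1) ⊓ fix S (Z v 1))) inf_le_left
    (isPGroup_of_coprime fun β hβ hc => h.ker1 hc ⟨fun x hx => (hβ.2.2 x hx).trans (pow_one x).symm, fun x hx =>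
      (pow_one x).symm ▸ hβ.2.1.2 x (h.Z_le (by decide) hx) hx⟩) (fun α hα => ?_)
    ⟨hβ, ⟨st 1 (by decide) hβ, fun x _ hx => by simpa only [pow_one, Cg] using k.2 x hx⟩,
      fun x hx => (k.1 x hx).trans (pow_one x)⟩
  have a := hF.syl_top.le hα
  exact inf_normalizer_le_normalizer_inf ⟨le_normalizer a, inf_normalizer_le_normalizer_inf
    ⟨le_norm_trivOn ⟨st 2 (by decide) a, st 1 (by decide) a⟩, stab_le_norm_fix (st 1 (by decide) a)⟩⟩

theorem ty_mul {α β : MulAut S} (h1 : Ty v (fn α) a b) (h2 : Ty v (fn β) c d) (hα : α ∈ stab S (Z v 1)) :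
    Ty v (fn (α * β)) (a * c) (b * d) := by
  have l := h.Z_le (k := 2) (by decide)
  refine ⟨fun x hx => by rw [fn_mul, h2.1 x hx, (mulOn_fn α).map_pow (l (h.l12 hx)), h1.1 x hx, pow_mul], fun x hx => ?_⟩
  have e := (h2.2 x hx).fn hα (l (pow_mem hx d)) (fn_mem β (l hx))
  rw [(mulOn_fn α).map_pow (l hx)] at e
  rw [fn_mul, pow_mul]
  exact ((h1.2 x hx).pow (h.n1 (pow_mem hx b)) d).trans e

theorem ty_mod (h1 : Ty v f a b) : Ty v f (a % 3) (b % 3) := by
  have k : ∀ x ∈ Z v 2, ∀ n : ℕ, x ^ (n % 3) = x ^ n := fun x hx n => by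
    obtain ⟨c, h2, rfl⟩ := h.ex_Z (by decide) hx
    refine (pow_eq_pow_mod n ?_).symm
    rw [← h.cu (by omega), (by decide +kernel : ∀ c < 3 ^ 2, Th3.cu c = 0) c h2, h.zero]
  exact ⟨fun x hx => by rw [k x (h.l12 hx), h1.1 x hx], fun x hx => by rw [k x hx]; exact h1.2 x hx⟩

theorem ex_ty (β : MulAut S) : ∃ a ∈ [1, 2], ∃ b ∈ [1, 2], Ty v (fn β) a b := by
  obtain ⟨st, -, -⟩ := h.char ⊤
  replace st : ∀ j ≤ 6, β ∈ stab S (Z v j) := fun j hj => st j hj (mem_top β)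
  have l := h.Z_le (k := 2) (by decide)
  have z1 := h.gen_mem (k := 0) (by decide)
  have z2 := h.gen_mem (k := 1) (by decide)
  have n2 : v (3 ^ 1) ∉ Z v 1 := (h.mem_Z (by decide) (by decide)).not.2 (by decide)
  obtain ⟨a, ha⟩ := h.ex_pow (k := 0) (by decide) (stab_maps (st 1 (by decide)) z1)
  obtain ⟨b, hb⟩ := h.ex_pow (k := 1) (by decide) (stab_maps (st 2 (by decide)) z2)
  have t := h.ty_mod (h.ty_mk ((mulOn_fn β).mono l) (h.eq_of ha).symm hb z2 n2)
  have a0 : a % 3 ≠ 0 := fun e => by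
    have := t.1 _ z1
    rw [e, pow_zero (v _), ← (mulOn_fn β).map_one, (fn_inj _).eq_iff, h.one_iff (by decide)] at this
    exact absurd this (by decide)
  have b0 : b % 3 ≠ 0 := fun e => n2 ((st 1 (by decide) _).1 (by simpa [e, Cg] using t.2 _ z2))
  exact ⟨_, by simp; omega, _, by simp; omega, t⟩

/-- a subsystem realizing two types contains all automorphisms of `S` -/
theorem aut_le (hF : Sat F 3) {E : FusionSystem S} (hE : Sat E 3) (sub : E.IsSubsystemOf F) (h1 : HT E v 2 2)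
    (h2 : HT E v 1 2) : F.autGroup S ≤ E.autGroup S := fun β hβ => by
  obtain ⟨α, a1, a2⟩ := h.ext hE h1
  obtain ⟨γ, c1, c2⟩ := h.ext hE h2
  have st : ∀ α : MulAut S, α ∈ stab S (Z v 1) := fun α => (h.char ⊤).1 1 (by decide) (mem_top α)
  have l := autGroup_mono sub S
  have k : ∀ δ ∈ E.autGroup S, Ty v (fn (δ * β)) 1 1 → β ∈ E.autGroup S := fun δ d1 d2 =>
    (mul_mem_cancel_left d1).1 (Inn_le_autGroup E le_rfl (h.ker hF (mul_mem (l d1) hβ) d2))
  obtain ⟨a, ha, b, hb, t⟩ := h.ex_ty β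
  simp only [List.mem_cons, List.not_mem_nil, or_false] at ha hb
  rcases ha with rfl | rfl <;> rcases hb with rfl | rfl
  · exact k 1 (one_mem _) (by simpa using t)
  · exact k γ c1 (h.ty_mod (h.ty_mul c2 t (st γ)))
  · exact k _ (mul_mem a1 c1) (h.ty_mod (h.ty_mul (h.ty_mul a2 c2 (st α)) t (st _)))
  · exact k α a1 (h.ty_mod (h.ty_mul a2 t (st α)))

end Md

end CF.Th3
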