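import Cfsg.Agent.Th3.N

/-! The two essential maximal subgroups. -/

set_option autoImplicit false
set_option linter.style.haveILetI false
set_option linter.unusedSimpArgs false

namespace CF.Th3

open Cfsg Cfsg.FusionSystem Subgroup CF.Fus CF.FusU CF.Comp

variable {Ω : Type*} [Group Ω] {S E U W H T : Subgroup Ω} {F : FusionSystem S} {v : ℕ → Ω}
  {Y M : Subgroup (MulAut E)} {g α β : MulAut E} {s t w x y z : Ω} {a b c d e j i k r : ℕ} {A B D R ys : List ℕ}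

theorem cm_mem_right (hx : x ∈ normalizer (T : Set Ω)) (ht : t ∈ T) : cm x t ∈ T := by
  rw [cm, show x⁻¹ * (t * x * t⁻¹) = x⁻¹ * t * x * t⁻¹ by group]
  exact mul_mem (conj_mem_of_norm' hx ht) (inv_mem ht)

theorem cj_T (hn : E ≤ normalizer (T : Set Ω)) (hg : g ∈ stab E T) (ht : t ∈ T) (ht' : t ∈ normalizer (E : Set Ω))
    (hx : x ∈ E) : Cg T x (fn (g * cA E t * g⁻¹) x) := by
  rw [fn_cj g ht' hx]
  exact Cg.mul_mem _ (stab_maps hg (cm_mem_right (hn (fn_mem _ hx)) ht))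

theorem Md.stab_Z (h : Md S v) (l : E ≤ S) (hB : Y ≤ stab E (cl v B)) (lB : cl v B ≤ E)
    (e : band (band (LE (zl 5) B) (LE D B)) (band (CC D B 0) (CE (zl 5) B 0 D)) = true := by decide +kernel) :
    Y ≤ stab E (cl v D) := by
  simp only [band_iff] at e
  have lD := (h.LE_spec e.1.2).trans lB
  refine le_stab lD fun α hα x hx => ?_
  have k : ∀ y ∈ cl v B, fn α x * y = y * fn α x := fun y hy => cm_eq_one.1 (mem_bot.1 (h.Z_zero.le
    ((Im.stab hB lB hy).cen' (h.Z_zero ▸ le_stab_bot) (lD hx) (fun u hu => h.CC_spec e.2.1 hx hu) hα)))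
  exact h.cen (h.cen_V (l (fn_mem α (lD hx))) fun y hy => k y (h.LE_spec e.1.1 hy)) k e.2.2

theorem Lr.nrm (h : Lr F v E Y M k A R) (ht : t ∈ S)
    (e : band (CC A g10 7) (LE (zl 7) A) = true := by decide +kernel) : t ∈ NS S E :=
  h.mx.mem_NS ht fun _ hx => h.eq ▸ h.md.LE_spec (band_iff.1 e).2
    (h.md.CC_spec (band_iff.1 e).1 (h.eq ▸ hx) (h.md.S_eq ▸ ht))

theorem Lr.HT (h : Lr F v E Y M k A R) (l : Z v 2 ≤ E) (hα : α ∈ Y) (t : Ty v (fn α) a b) : HT F v a b :=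
  ⟨_, (mor_fn h.mx.le (h.mx.aut hα)).mono l, t⟩

section

variable (h : Lr F v E Y M 0 lB [3, 6])
include h

theorem Lr.b_ty : Th3.HT F v 2 2 := by
  have m := h.md
  have l : Z v 2 ≤ E := h.eq ▸ m.LE_spec
  have s := m.stab_Z (D := zl 2) h.mx.le h.st h.le'
  obtain ⟨r, r1, r2, g, g1, -, g3⟩ := h.ex
  refine m.ty22 ((mor_fn h.mx.le (h.mx.aut g1)).mono l) (fun x hx => stab_maps (s g1) hx) ?_
  rw [show v 1 = v (3 ^ 0) from rfl, ← m.eq_of g3, m.mem_Z (by decide) r2]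
  exact (by decide : ∀ r ∈ [3, 6], ¬ r < 3 ^ 1) r r1

theorem Lr.b_T (hn : S ≤ normalizer (T : Set Ω)) (hT : Y ≤ stab E T) (l : T ≤ Z v 9) : T ≤ E := fun t ht => by
  have m := h.md
  by_contra tn
  obtain ⟨g, g1, g2⟩ := h.mx.exg
  have t1 := h.nrm (m.Z_le (by decide) (l ht))
  have l8 : Z v 8 ≤ E := h.eq ▸ m.LE_spec
  have s8 : Y ≤ stab E (cl v (zl 8)) := h.mx.inv l8 (fun n hn x hx => cm_mem hx (m.Z_norm (by decide) hn.1))
    (cj_mem h.mx.toMn g1 t1.1) (nm' h.mx.toMn g1 g2 t1 tn) fun x hx => m.cen (A := zl 9) (B := zl 2)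
      ((cj_T (h.mx.le.trans hn) (hT g1) ht t1.2 (l8 hx)).mem l (m.Z_mono (by decide) (by decide) hx))
      fun y hy => m.comm (A := lB) (by decide +kernel) (h.eq ▸ fn_mem _ (l8 hx)) hy
  have i : ∀ c, (e : band (band (okl (zl 8)) (Th3.lt c 59049)) (mm (zl 8) c) = true := by decide +kernel) →
    Im E Y (v c) (cl v (zl 8)) := fun c e => Im.stab s8 l8 (m.mem' e)
  have c : ∀ y ∈ [41], Im E Y (v y) (cl v (zl 4)) := by
    simpa [Z] using m.im_cm (a := 2187) (b := 729) (c := 41) (j := 4) (i _) (i _)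
  exact h.fin1 (m.im_cm (a := 2187) (b := 81) (c := 1) (j := 1) (m.im_cen (D := lR) (i _) c (h.inv 0 le_rfl))
    (m.im_cen (D := lR) (i _) c (h.inv 0 le_rfl))) (Cg.refl _)

end

section

variable (h : Lr F v E Y M 1 (zl 9) [9, 18])
include h

theorem Lr.a3 : Y ≤ stab E (Z v 3) := (h.md.stab_cen (D := zl 3) h.st h.le' h.st h.le' (h.inv 1 le_rfl)).1

theorem Lr.a_T (hS : T ≤ S) (hn : S ≤ normalizer (T : Set Ω)) (hT : Y ≤ stab E T) (l : ¬ T ≤ E) : T = S := by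
  have m := h.md
  haveI := m.fin
  obtain ⟨t, ht, tn⟩ := SetLike.not_le_iff_exists.1 l
  obtain ⟨g, g1, g2⟩ := h.mx.exg
  have t1 := h.nrm (hS ht)
  have lZ : ∀ j, (hj : j ≤ 9 := by decide) → Z v j ≤ E := fun j hj => h.eq ▸ m.Z_mono hj (by decide)
  have k : ∀ j ≤ 9, ¬ Y ≤ stab E (Z v j) → ∃ x ∈ Z v j, ∃ α ∈ Y, x⁻¹ * fn α x ∈ T ∧ x⁻¹ * fn α x ∉ Z v j :=
    fun j hj c => by
      obtain ⟨x, x1, x2⟩ := h.mx.moves (lZ j hj) (fun n hn x hx => cm_mem hx (m.Z_norm (by omega) hn.1)) c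
        (cj_mem h.mx.toMn g1 t1.1) (nm' h.mx.toMn g1 g2 t1 tn)
      exact ⟨x, x1, _, cj_mem h.mx.toMn g1 t1.1, cj_T (h.mx.le.trans hn) (hT g1) ht t1.2 (lZ j hj x1),
        fun e => x2 (Cg.mem e le_rfl x1)⟩
  obtain ⟨x, x1, α, -, x2, x3⟩ := k 8 (by decide) fun s =>
    h.fin1 (Im.stab (m.stab_Z (D := zl 2) h.mx.le s (lZ 8)) (lZ 2) (m.gen_mem h.lt)) (Cg.refl _)
  obtain ⟨y, y1, β, b1, y2, y3⟩ := k 6 (by decide) fun s =>
    h.fin1 (m.im_cm (A := zl 6) (B := zl 6) (a := 243) (b := 81) (c := 5) (j := 2) (Im.stab s (lZ 6) m.mem')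
      (Im.stab s (lZ 6) m.mem')) m.cg
  have sC := m.stab_cen (D := lC) (B := zl 3) h.st h.le' h.a3 (lZ 3) (h.inv 0 (by decide))
  have y4 : y ∈ cl v lC := m.LE_spec (A := zl 6) (by decide +kernel) y1
  have l7 : Z v 7 ≤ T ⊔ Z v 7 := le_sup_right
  have e : v (3 ^ 7) ∈ T ⊔ Z v 7 := gen3 (m.mem (by decide)) (m.Z_norm (k := 6) (by decide) (m.mem (by decide)))
    (m.cu (a := 3 ^ 7) (by decide) ▸ m.Z_of_lt (by decide) (by decide +kernel)) (cl_le.2 (fun c hc => by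
      rcases (by decide : ∀ c ∈ lC, c < 3 ^ 6 ∨ c = 3 ^ 7) c hc with e | rfl
      exacts [mem_sup_left (m.Z_of_lt (by decide) e), mem_sup_right (mem_zpowers _)])
      (mul_mem (inv_mem y4) (stab_maps (sC.1 b1) y4))) y3 ((m.Z_mono (by decide) (by decide)).trans l7) (mem_sup_left y2)
  have l9 := m.gen3 (k := 8) (by decide) ((Md.Z_succ (by decide)).trans (sup_le l7 (zpowers_le.2 e)))
    (h.eq.le (mul_mem (inv_mem (lZ 8 (by decide) x1)) (fn_mem α (lZ 8 (by decide) x1)))) x3 (mem_sup_left x2)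
  have l10 := m.gen3 (k := 9) (by decide) l9 (m.Z_ten.ge (hS ht)) (fun e => tn (lZ 9 (by decide) e)) (mem_sup_left ht)
  rw [show 9 + 1 = 10 from rfl, m.Z_ten] at l10
  exact le_antisymm hS (l10.trans (sup_le le_rfl ((m.LE_spec (B := lB)).trans
    (m.desc hS hn ((m.cl_le_S (by decide +kernel)).trans l10)))))

theorem Lr.a_ty : Th3.HT F v 1 2 := by
  have m := h.md
  haveI := m.fin
  obtain ⟨g, g1, g2⟩ := h.mx.exg
  have lZ : ∀ j, (hj : j ≤ 9 := by decide) → Z v j ≤ E := fun j hj => h.eq ▸ m.Z_mono hj (by decide)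
  have t1 := h.nrm (m.mem (a := 19683) (by decide))
  have tn : v 19683 ∉ E := h.eq ▸ (m.mem_Z (k := 9) (by decide) (by decide)).not.2 (by decide)
  have w2 : v 3 ∈ Z v 2 := m.gen_mem h.lt
  have w3 : v 3 ∈ Z v 3 := m.Z_mono (by decide) (by decide) w2
  have wE := lZ 2 (by decide) w2
  have c2 : cm (fn g⁻¹ (v 3)) (v 19683) ∈ Z v 2 := m.cm_Z (by decide) (stab_maps (h.a3 (inv_mem g1)) w3) t1.1
  have c1 : cm (fn g⁻¹ (v 3)) (v 19683) ∉ Z v 1 := fun e =>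
    tn ((h.all _ (inv_mem g1) (by simpa using g2) _ t1.1).2 e)
  have cz : ∀ x ∈ Z v 2, ∀ y ∈ cl v lB, y * x * y⁻¹ = x := fun x hx y hy => by
    rw [m.comm (B := zl 2) (by decide +kernel) hy hx, mul_inv_cancel_right]
  have θ1 := cj_mem h.mx.toMn g1 t1.1
  have θ2 := fn_cj g t1.2 wE
  generalize cm (fn g⁻¹ (v 3)) (v 19683) = c at c1 c2 θ2
  have u3 : fn g c ∈ Z v 3 := stab_maps (h.a3 g1) (m.Z_mono (by decide) (by decide) c2)
  have θ3 : fn (g * cA E (v 19683) * g⁻¹) (fn g c) = fn g c := by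
    rw [fn_mul, fn_inv_fn, fn_mul, fn_cA t1.2 (lZ 2 (by decide) c2), cz c c2 _ m.mem']
  have u2 : fn g c ∉ Z v 2 := fun e => by
    have := m.gen3 (k := 1) (H := pre (fn g) E (Z v 2)) (by decide) (fun x hx => mem_pre_of (lZ 1 (by decide) hx)
      (m.l12 (stab_maps (h.inv 1 le_rfl g1) hx))) c2 c1 (mem_pre_of (lZ 2 (by decide) c2) e) w2
    exact tn ((h.all g g1 g2 _ t1.1).2 (m.cm_Z (by decide) ((mulOn_fn g).mem_pre.1 this).2 t1.1))
  generalize fn g c = u at u2 u3 θ2 θ3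
  generalize g * cA E (v 19683) * g⁻¹ = θ at θ1 θ2 θ3
  obtain ⟨r, r1, r2, -, r3⟩ := m.CV_spec (E := zl 3) (D := zl 2) (P := fun r => Bool.rec (lany (fun s =>
    band (band (Th3.lt s 59049) (mm lB s)) (Th3.lt (mu (iv 3) (cc r s)) 3)) [19683, 39366]) true (Nat.beq r 0))
    (by decide +kernel) u3
  rcases brec_or.1 r2 with r0 | r0
  · exact absurd (by simpa [beq_iff.1 r0, m.zero, Z] using r3) u2
  obtain ⟨s, -, s2⟩ := lany_iff.1 r0
  simp only [band_iff, lt_iff] at s2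
  have s3 := m.mm_spec (by decide +kernel) s2.1.1 s2.1.2
  have s4 := h.nrm (m.mem s2.1.1)
  have e1 : Cg (Z v 1) (v 3) (cm u (v s)) := by
    refine Cg.trans ?_ (Cg.cm_left r3 (fun c hc => m.cm_Z (by decide) hc s4.1) fun c hc =>
      m.cm_Z' (by decide) (cm_mem' (m.mem r1) s4.1) (inv_mem hc))
    rw [Cg, ← m.cc r1 s2.1.1, ← m.inv (by decide), ← m.mul (by decide +kernel) (cc_lt r1 s2.1.1)]
    exact m.Z_of_lt (by decide) s2.2
  have uE := lZ 3 (by decide) u3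
  have φ1 := mul_mem (mul_mem θ1 (h.mx.cA_mem s4.1)) θ1
  refine h.HT (lZ 2) φ1 (m.ty_mk ((mulOn_fn _).mono (lZ 2)) ?_ ?_ w2
    ((m.mem_Z (by decide) (by decide)).not.2 (by decide)))
  · rw [pow_one]; exact (m.eq_of (h.triv 0 (by decide) _ φ1 _ (m.gen_mem (k := 0) (by decide)))).symm
  have e2 := ((e1.mul_left u).mul_left (v 3)).fn (h.inv 1 le_rfl θ1) (mul_mem wE (mul_mem uE wE))
    (mul_mem wE (mul_mem uE (cm_mem uE s4.2)))
  rw [mulOn_fn θ wE (mul_mem uE wE), mulOn_fn θ uE wE, θ2, θ3] at e2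
  rw [fn_mul, fn_mul, θ2, mulOn_fn _ wE uE, fn_cA s4.2 wE, fn_cA s4.2 uE, cz _ w2 _ s3, ← mul_cm]
  refine (Cg.of_eq ?_).trans e2
  obtain ⟨q, q1, rfl⟩ := m.ex_Z (by decide) u3
  have l : q < 59049 := by omega
  have l' := mu_lt (a := 3) (by decide) l
  rw [pow_two, ← m.mul (by decide) (by decide), ← m.mul (by decide) l, ← m.mul l l', ← m.mul l' (mu_lt l l'),
    (by decide +kernel : ∀ q < 3 ^ 3, mu (mu 3 q) (mu q (mu 3 q)) = mu 3 3) q q1]

end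

end CF.Th3
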