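import Cfsg.Agent.Th3.O

/-! The elementary abelian essential subgroup. -/

set_option autoImplicit false
set_option linter.style.haveILetI false
set_option linter.unusedSimpArgs false

namespace CF.Th3

open Cfsg Cfsg.FusionSystem Subgroup CF.Fus CF.FusU CF.Comp

variable {Ω : Type*} [Group Ω] {S E U W H T : Subgroup Ω} {F : FusionSystem S} {v : ℕ → Ω}
  {Y M K : Subgroup (MulAut E)} {g α β γ : MulAut E} {s t u w x y z : Ω} {a b c d e j i k r : ℕ} {A B D R ys : List ℕ}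

theorem Md.cm_lZ (h : Md S v) (hx : x ∈ cl v lE) (e : Cg (cl v lZ) x y) (hs : s ∈ cl v lN) : cm x s = cm y s :=
  h.eq_of (e.cm_left (fun _ hc => h.CC_spec (by decide +kernel) hc hs) fun _ hc => h.CC_spec (A := zl 2)
    (by decide +kernel) (h.CC_spec (k := 2) (by decide +kernel) hx hs) (inv_mem hc))

theorem Md.e2 (h : Md S v) (hx : x ∈ cl v lE) (hx' : x ∉ cl v lZ) (hy : y ∈ Z v 2) : ∃ s ∈ cl v lN, cm x s = y := by
  obtain ⟨r, r1, r2, r3, r4⟩ := h.CV_spec (E := lE) (D := lZ) (P := fun r => Bool.rec (allN 9 fun y => lany (fun s =>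
    band (band (lt s 59049) (mm lN s)) (Nat.beq (Th3.cc r s) y)) [0, 9, 18, 27, 36, 45, 54, 63, 72]) true (Nat.beq r 0))
    (by decide +kernel) hx
  rcases brec_or.1 r2 with r0 | r0
  · exact absurd (by simpa [beq_iff.1 r0, h.zero] using r4) hx'
  obtain ⟨c, c1, rfl⟩ := h.ex_Z (by decide) hy
  obtain ⟨s, -, s2⟩ := lany_iff.1 (allN_spec r0 (by decide) c c1)
  simp only [band_iff, lt_iff, beq_iff] at s2
  have s3 := h.mm_spec (by decide +kernel) s2.1.1 s2.1.2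
  exact ⟨_, s3, by rw [← s2.2, h.cc r1 s2.1.1, h.cm_lZ r3 r4 s3]⟩

theorem Md.e3 (h : Md S v) (ht : t ∈ cl v lN) (ht' : t ∉ cl v lE) (hy : y ∈ Z v 2) : ∃ x ∈ cl v lE, cm x t = y := by
  obtain ⟨r, r1, r2, -, r4⟩ := h.CV_spec (E := lN) (D := lE) (P := fun r => Bool.rec (allN 9 fun y => lany (fun s =>
    band (band (lt s 59049) (mm lE s)) (Nat.beq (Th3.cc s r) y)) [0, 3888, 5652, 19926, 23832, 24858, 39879, 43047, 44712])
    true (Nat.beq r 0)) (by decide +kernel) ht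
  rcases brec_or.1 r2 with r0 | r0
  · exact absurd (by simpa [beq_iff.1 r0, h.zero] using r4) ht'
  obtain ⟨c, c1, rfl⟩ := h.ex_Z (by decide) hy
  obtain ⟨s, -, s2⟩ := lany_iff.1 (allN_spec r0 (by decide) c c1)
  simp only [band_iff, lt_iff, beq_iff] at s2
  have s3 := h.mm_spec (by decide +kernel) s2.1.1 s2.1.2
  refine ⟨_, s3, ?_⟩
  rw [← s2.2, h.cc s2.1.1 r1, ← mul_inv_cancel_left (v r) t, cm_mul_right,
    cm_eq_one.2 (h.comm (by decide +kernel) s3 r4), mul_one, mul_inv_cancel, mul_one]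

theorem Md.e5 (h : Md S v) (hx : x ∈ cl v lE) (e : cm x (v 72) = (v a)⁻¹) (k : (a, b) ∈ [(1, 3), (3, 7)]) :
    cm x (v 9) = (v b)⁻¹ := by
  obtain ⟨r, r1, r2, r3, r4⟩ := h.CV_spec (E := lE) (D := lZ) (P := fun r => lall (fun q : ℕ × ℕ => Bool.rec true
    (Nat.beq (Th3.cc r 9) (iv q.2)) (Nat.beq (Th3.cc r 72) (iv q.1))) [(1, 3), (3, 7)]) (by decide +kernel) hx
  obtain ⟨l1, l2⟩ := (by decide : ∀ q ∈ [(1, 3), (3, 7)], q.1 < 59049 ∧ q.2 < 59049) _ k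
  rw [← h.cm_lZ r3 r4 h.mem', ← h.cc r1 (by decide), ← h.inv l1, h.eq_iff (cc_lt r1 (by decide)) (iv_lt l1).1] at e
  rw [← h.cm_lZ r3 r4 h.mem', ← h.cc r1 (by decide), ← h.inv l2, beq_iff.1 (brec_imp.1 (lall_iff.1 r2 _ k) (beq_iff.2 e))]

namespace Lr

variable (h : Lr F v E Y M 0 lE rE)
include h

theorem eN : NS S E = cl v lN := h.eq ▸ h.md.NE_spec (r := 19926) (k := 0) (by decide +kernel)

theorem l2 : Z v 2 ≤ E := h.eq ▸ h.md.LE_spec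

theorem cmE (hx : x ∈ E) (hs : s ∈ NS S E) : cm x s ∈ Z v 2 :=
  h.md.CC_spec (A := lE) (B := lN) (by decide +kernel) (h.eq ▸ hx) (h.eN ▸ hs)

theorem cZ (hx : x ∈ cl v lZ) (hs : s ∈ NS S E) : x * s = s * x :=
  h.md.comm (B := lN) (by decide +kernel) hx (h.eN ▸ hs)

theorem lZ2 : Z v 2 ≤ cl v lZ := h.md.LE_spec

theorem e1 (g1 : g ∈ Y) (g2 : g ∉ M) (hu : u ∈ Z v 2) (e : fn g u ∈ cl v lZ) : u = 1 := by
  have m := h.md
  haveI := m.fin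
  by_contra u1
  have t1 : v 9 ∈ NS S E := h.eN ▸ m.mem'
  have ni : ∀ c ∈ [9, 27, 36, 45], v c ∉ E := fun c hc => h.eq ▸ m.NI_spec (r := 19926) (k := 0) (by decide +kernel)
    ((by decide +kernel : ∀ c ∈ [9, 27, 36, 45], NI 19926 0 c = true) c hc)
  have f := h.mx.fix (h.l2 hu) (fun n hn => h.cZ (h.lZ2 hu) hn) g1 g2 t1 (ni 9 (by decide)) (h.cZ e t1)
  have l : zpowers u ≤ Z v 2 := zpowers_le.2 hu
  have s : Y ≤ stab E (zpowers u) := le_stab (l.trans h.l2) fun α hα x hx => by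
    obtain ⟨n, rfl⟩ := hx
    rw [(mulOn_fn α).map_zpow (h.l2 hu), f α hα]; exact ⟨n, rfl⟩
  have c : ∀ x ∈ Z v 2, ∀ n ∈ NS S E, cm x n = 1 := fun x hx n hn => cm_eq_one.2 (h.cZ (h.lZ2 hx) hn)
  obtain ⟨w, w1, w2⟩ : ∃ w ∈ Z v 2, Z v 2 ≤ zpowers u ⊔ zpowers w := by
    by_cases z : u ∈ Z v 1
    · exact ⟨_, m.gen_mem (by decide), (Md.Z_succ (by decide)).trans (sup_le_sup_right (m.gen3 (k := 0) (by decide)
        (m.Z_zero.le.trans bot_le) z (by rwa [m.Z_zero, mem_bot]) (mem_zpowers u)) _)⟩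
    · exact ⟨_, m.l12 (m.gen_mem (by decide)), m.gen3 (k := 1) (by decide) ((Md.Z_succ (by decide)).trans
        (sup_le_sup_right (m.Z_zero.le.trans bot_le) _)) hu z (mem_sup_left (mem_zpowers u))⟩
  refine Th3.tv h.mx.toMn s (l.trans h.l2) (fun n hn => norm_of_cm (l.trans (m.Z_le (by decide))) fun x hx => by
    rw [c x (l hx) n hn]; exact one_mem _) (h.l2 w1) (fun n hn => by rw [c w w1 n hn]; exact one_mem _) ?_ t1
    (ni 9 (by decide)) (fun x hx => w2 (h.cmE hx t1)) (Lv.bot.stepc t1.2 s fun x _ hx => by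
      rw [c x (l hx) _ t1]; exact one_mem _) (s := v 27) (h.eN ▸ m.mem') fun i => ?_
  · obtain ⟨c, h2, rfl⟩ := m.ex_Z (by decide) w1
    rw [← m.cu (by omega), (by decide +kernel : ∀ c < 3 ^ 2, Th3.cu c = 0) c h2, m.zero]
    exact one_mem _
  · suffices ∃ c ∈ [27, 36, 45], v 9 ^ i * v 27 = v c from
      let ⟨c, c1, c2⟩ := this; c2 ▸ ni c (List.mem_cons_of_mem _ c1)
    induction i with
    | zero => exact ⟨27, by decide, by simp⟩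
    | succ i ih =>
      obtain ⟨c, c1, c2⟩ := ih
      obtain ⟨c3, c4⟩ := (by decide +kernel : ∀ c ∈ [27, 36, 45], c < 59049 ∧ mu 9 c ∈ [27, 36, 45]) c c1
      exact ⟨_, c4, by rw [pow_succ', mul_assoc, c2, m.mul (by decide) c3]⟩

theorem e4 : M ≤ stab E (Z v 2) := h.mx.gam _ fun α t ht tn s hs e => by
  haveI := h.md.fin
  haveI := fin_of_le (h.md.Z_le (k := 2) (by decide))
  refine mem_stab_of_maps h.l2 fun y hy => ?_
  obtain ⟨x, hx, rfl⟩ := h.md.e3 (h.eN ▸ ht) (h.eq ▸ tn) hy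
  rw [← h.eq] at hx
  rw [cm, (mulOn_fn α).map_inv_mul hx (conj_mem_of_norm ht.2 hx), (conj_cA ht.2 hs.2).1 e x hx]
  exact h.cmE (fn_mem α hx) hs

theorem z_ne (g1 : g ∈ Y) (g2 : g ∉ M) : fn g (v 1) ∉ cl v lZ := fun e => absurd ((h.md.one_iff (by decide)).1
  (h.e1 g1 g2 (h.md.Z_of_lt (by decide) (by decide)) e)) (by decide)

theorem ab (hx : x ∈ E) (hy : y ∈ E) : x * y = y * x :=
  h.md.comm (A := lE) (B := lE) (by decide +kernel) (h.eq ▸ hx) (h.eq ▸ hy)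

theorem e6 (hK : Y ≤ normalizer (K : Set (MulAut E))) (hN : ∀ s ∈ NS S E, cA E s ∈ K) (g1 : g ∈ Y) (g2 : g ∉ M)
    (e : band (band (band (okl lN) (Th3.lt c 59049)) (mm lN c)) (CE lE [c] 0 lZ) = true := by decide +kernel) :
    ∃ γ ∈ Y, γ ∈ K ∧ g⁻¹ * γ ∈ M ∧ ∀ y ∈ Z v 2, cm (fn γ y) (v c) = y⁻¹ := by
  have m := h.md
  obtain ⟨e1, e2⟩ := band_iff.1 e
  have s1 : v c ∈ NS S E := h.eN ▸ m.mem' e1
  have z2 : v 1 ∈ Z v 2 := m.Z_of_lt (by decide) (by decide)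
  have u0 := fn_mem g (h.l2 z2)
  have y2 := inv_mem (h.cmE u0 s1)
  have y1 : (cm (fn g (v 1)) (v c))⁻¹ ≠ 1 := fun k => h.z_ne g1 g2 (m.CE_spec e2 (h.eq ▸ u0) fun y hy => by
    rw [List.mem_singleton.1 hy, inv_eq_one.1 k]; exact one_mem _)
  have g3 : g⁻¹ ∉ M := by simpa using g2
  obtain ⟨t, t1, t2⟩ := m.e2 (h.eq ▸ fn_mem g⁻¹ (h.l2 y2)) (fun k => y1 (h.e1 (inv_mem g1) g3 y2 k)) z2
  rw [← h.eN] at t1
  have γ1 := mul_mem (h.mx.cA_mem s1.1) (cj_mem h.mx.toMn g1 t1.1)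
  have k : ∀ y ∈ Z v 2, fn (cA E (v c) * (g * cA E t * g⁻¹)) y =
      fn g (cm (fn g⁻¹ y) t) * (y * cm (fn g (cm (fn g⁻¹ y) t)) (v c)) := fun y hy => by
    have a := fn_mem g (cm_mem (fn_mem g⁻¹ (h.l2 hy)) t1.2)
    rw [fn_mul, fn_cj g t1.2 (h.l2 hy), h.ab (h.l2 hy) a, fn_cA s1.2 (mul_mem a (h.l2 hy)), ← mul_cm, cm_mul_left,
      cm_eq_one.2 (h.cZ (h.lZ2 hy) s1), mul_one, mul_assoc y⁻¹, ← h.ab (h.l2 hy) (cm_mem a s1.2), inv_mul_cancel_left,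
      mul_assoc]
  have γ2 : g⁻¹ * (cA E (v c) * (g * cA E t * g⁻¹)) ∈ M := by_contra fun n => y1 (h.e1 (mul_mem (inv_mem g1) γ1) n y2 (by
    rw [fn_mul, k _ y2, t2, inv_mul_cancel, mul_one, fn_inv_fn]; exact h.lZ2 z2))
  refine ⟨_, γ1, mul_mem (hN _ s1) (conj_mem_of_norm (hK g1) (hN t t1)), γ2, fun y hy => ?_⟩
  have a := h.cmE (fn_mem g⁻¹ (h.l2 hy)) t1
  have b := mul_mem hy (h.cmE (fn_mem g (h.l2 a)) s1)
  have q := stab_maps (h.e4 γ2) hy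
  rw [fn_mul, k y hy, mulOn_fn _ (fn_mem g (h.l2 a)) (h.l2 b), fn_inv_fn, mul_mem_cancel_left a] at q
  have q2 := h.e1 (inv_mem g1) g3 b (h.lZ2 q)
  rw [k y hy, q2, mul_one, eq_inv_of_mul_eq_one_right q2]

theorem e7 (hK : Y ≤ normalizer (K : Set (MulAut E))) (hN : ∀ s ∈ NS S E, cA E s ∈ K) :
    ∃ η ∈ Y, η ∈ K ∧ η ∈ stab E (Z v 2) ∧ fn η (v 1) = v 3 ∧ fn η (v 3) = v 7 := by
  have m := h.md
  obtain ⟨g, g1, g2⟩ := h.mx.exg
  obtain ⟨α, a1, a2, a3, a4⟩ := h.e6 (c := 9) hK hN g1 g2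
  obtain ⟨β, b1, b2, b3, b4⟩ := h.e6 (c := 72) hK hN g1 g2
  have s : α⁻¹ * β ∈ stab E (Z v 2) := h.e4 (by simpa [mul_assoc] using mul_mem (inv_mem a3) b3)
  have k : ∀ a b, (a, b) ∈ [(1, 3), (3, 7)] → a < 3 ^ 2 → fn (α⁻¹ * β) (v a) = v b := fun a b e l => by
    have y := m.Z_of_lt (by decide) l
    have := a4 _ (stab_maps s y)
    rw [fn_mul, fn_fn_inv, m.e5 (h.eq ▸ fn_mem β (h.l2 y)) (b4 _ y) e, inv_inj] at this
    rw [fn_mul, this]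
  exact ⟨_, mul_mem (inv_mem a1) b1, mul_mem (inv_mem a2) b2, s, k 1 3 (by decide) (by decide),
    k 3 7 (by decide) (by decide)⟩

theorem e_T (hS : T ≤ S) (hn : S ≤ normalizer (T : Set Ω)) (hT : Y ≤ stab E T) (l : T ≠ ⊥) : cl v lB ≤ T := by
  have m := h.md
  obtain ⟨g, g1, g2⟩ := h.mx.exg
  have z1 : v 1 ∈ Z v 1 := m.gen_mem (k := 0) (by decide)
  have l2 : Z v 2 ≤ T := fun y hy => by
    obtain ⟨s, s1, s2⟩ := m.e2 (h.eq ▸ fn_mem g (h.l2 (m.l12 z1))) (h.z_ne g1 g2) hy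
    exact s2 ▸ cm_mem (stab_maps (hT g1) (m.z_mem hS hn l z1)) (hn (m.cl_le_S (by decide +kernel) s1))
  obtain ⟨γ, -, c2, -, c4⟩ := h.e6 (c := 9) (K := Y) le_normalizer (fun s hs => h.mx.cA_mem hs.1) g1 g2
  have t1 : v 9 ∈ NS S E := h.eN ▸ m.mem'
  have k : E ≤ T ⊔ Z v 7 := fun x hx => by
    have y := inv_mem (h.cmE hx t1)
    have e := fn_mem γ (h.l2 y)
    refine Cg.mem' (D := cl v lZ) (m.CE_spec (A := lE) (ys := [9]) (j := 0) (by decide +kernel)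
      (h.eq ▸ mul_mem (inv_mem hx) e) fun s hs => ?_) ((m.LE_spec (B := zl 7)).trans le_sup_right)
      (mem_sup_left (stab_maps (hT c2) (l2 y)))
    rw [List.mem_singleton.1 hs, cm_mul_left, c4 _ y, cm_inv_left, h.ab hx (h.l2 y), mul_inv_cancel_right, mul_assoc _ _ (fn _ _),
      ← h.ab e (h.l2 y), inv_mul_cancel_left, mul_inv_cancel]
    exact one_mem _
  refine m.desc hS hn ((m.LE_spec (B := [19926, 0, 3888, 729, 243, 81, 27, 9, 3, 1])).trans (cl_le.2 fun c hc => ?_))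
  rcases (by decide : ∀ c ∈ [19926, 0, 3888, 729, 243, 81, 27, 9, 3, 1], c ∈ lE ∨ c < 3 ^ 7) c hc with e | e
  exacts [k (h.eq ▸ mem_cl e), mem_sup_right (m.Z_of_lt (by decide) e)]

end Lr

end CF.Th3
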